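import Cfsg.Agent.Lib.Coxeter.Geometric

/-!
# Computing in finite crystallographic Coxeter groups

Elements of `M.Group` (`M : CoxeterMatrix (Fin n)`, entries 2, 3, 4, 6) are given by words
`List ℕ` (`elemOf`); two of them are equal iff they agree on the weight `(1, …, 1)`, computed by
`evalL` (`elemOf_eq_of_evalL`, `elemOf_ne_of_evalL`). `card_par_succ` turns a checked coset
certificate (`stepCheck`) into `|W_{k+1}| = (number of representatives) * |W_k|`,
`orderOf_of_evalL` computes element orders.
-/

set_option autoImplicit false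

namespace Cfsg.Agent.Coxeter

open CoxeterSystem

/-- The Cartan matrix attached to a crystallographic Coxeter matrix. -/
def cartanOf {n : ℕ} (M : CoxeterMatrix (Fin n)) (i j : Fin n) : ℤ :=
  if i = j then 2 else
    if M i j = 3 then -1 else
      if M i j = 4 then (if i < j then -2 else -1) else
        if M i j = 6 then (if i < j then -3 else -1) else 0

theorem isCartan_cartanOf {n : ℕ} {M : CoxeterMatrix (Fin n)}
    (h : ∀ i j, i ≠ j → M i j ∈ [2, 3, 4, 6]) : IsCartan M (cartanOf M) where
  diag i := by simp [cartanOf]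
  off i j hij := by
    have h' := h i j hij
    simp only [List.mem_cons, List.not_mem_nil, or_false] at h'
    have hs : M j i = M i j := M.symmetric j i
    rcases lt_or_gt_of_ne hij with hl | hl <;> rcases h' with h' | h' | h' | h' <;>
      simp [cartanOf, hij, hij.symm, hs, h', hl, hl.not_gt]

/-- `isCartan_cartanOf` with a hypothesis that `decide` can check. -/
theorem isCartan_cartanOf_all {n : ℕ} {M : CoxeterMatrix (Fin n)}
    (h : ((List.finRange n).all fun i => (List.finRange n).all fun j =>
      decide (i = j) || [2, 3, 4, 6].contains (M i j)) = true) : IsCartan M (cartanOf M) := by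
  refine isCartan_cartanOf fun i j hij => ?_
  simpa [hij] using
    List.all_eq_true.1 (List.all_eq_true.1 h i (List.mem_finRange i)) j (List.mem_finRange j)

/-- One reflection, on lists. -/
def stepL (row : List ℤ) (i : ℕ) (l : List ℤ) : List ℤ :=
  let li := l.getD i 0
  List.zipWith (fun x a => x - a * li) l row

/-- A word of reflections applied to a weight, on lists. -/
def evalL (R : List (List ℤ)) (w : List ℕ) (l : List ℤ) : List ℤ :=
  w.foldr (fun i acc => stepL (R.getD i []) i acc) l

/-- Strictly increasing, as a Bool. -/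
def sortedB : List ℤ → Bool
  | [] => true
  | [_] => true
  | a :: b :: t => decide (a < b) && sortedB (b :: t)

theorem pairwise_of_sortedB : ∀ {l : List ℤ}, sortedB l = true → l.Pairwise (· < ·) := by
  intro l
  induction l with
  | nil => simp
  | cons a t ih =>
    intro h
    cases t with
    | nil => simp
    | cons b t =>
      simp only [sortedB, Bool.and_eq_true, decide_eq_true_eq] at h
      have ih' := ih h.2
      refine List.pairwise_cons.2 ⟨fun x hx => ?_, ih'⟩
      rcases List.mem_cons.1 hx with rfl | hx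
      · exact h.1
      · exact h.1.trans ((List.pairwise_cons.1 ih').1 x hx)

/-- An injective-enough code of a weight. -/
def keyOf (l : List ℤ) : ℤ := l.foldl (fun acc x => acc * 1024 + x) 0

/-- The checker for one step of a parabolic chain. -/
def stepCheck (R : List (List ℤ)) (n k : ℕ) (reps : List (List ℕ))
    (trans : List (List (ℕ × List ℕ))) (keys : List ℤ) : Bool :=
  decide (k < n) &&
  decide ([] ∈ reps) &&
  decide (reps.map (fun r => keyOf (evalL R r ((List.replicate n 0).set k 1))) = keys) &&
  sortedB keys &&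
  reps.all (fun r => r.all (fun i => decide (i ≤ k))) &&
  decide (trans.length = reps.length) &&
  (reps.zip trans).all (fun rt => decide (rt.2.length = k + 1) &&
    (rt.2.zip (List.range (k + 1))).all (fun p =>
      decide (p.1.1 < reps.length) && p.1.2.all (fun j => decide (j < k)) &&
      decide (evalL R (p.2 :: rt.1) (List.replicate n 1) =
        evalL R (reps.getD p.1.1 [] ++ p.1.2) (List.replicate n 1))))

variable {n : ℕ} [NeZero n] {M : CoxeterMatrix (Fin n)}

/-- The element of `M.Group` given by a word in `ℕ`. -/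
def elemOf (M : CoxeterMatrix (Fin n)) (w : List ℕ) : M.Group :=
  M.toCoxeterSystem.wordProd (w.map (Fin.ofNat n))

theorem elemOf_nil : elemOf M [] = 1 := M.toCoxeterSystem.wordProd_nil

theorem elemOf_cons (i : ℕ) (w : List ℕ) :
    elemOf M (i :: w) = M.toCoxeterSystem.simple (Fin.ofNat n i) * elemOf M w :=
  M.toCoxeterSystem.wordProd_cons _ _

theorem elemOf_append (w w' : List ℕ) : elemOf M (w ++ w') = elemOf M w * elemOf M w' := by
  rw [elemOf, List.map_append, M.toCoxeterSystem.wordProd_append]; rfl

theorem elemOf_pow (w : List ℕ) (m : ℕ) :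
    elemOf M w ^ m = elemOf M (List.replicate m w).flatten := by
  induction m with
  | zero => simp [elemOf_nil]
  | succ m ih => rw [pow_succ', ih, List.replicate_succ, List.flatten_cons, elemOf_append]

variable (hA : IsCartan M (cartanOf M)) {R : List (List ℤ)}
  (hR : List.ofFn (fun i => List.ofFn (cartanOf M i)) = R)
include hR

theorem ofFn_act_elemOf : ∀ (w : List ℕ), (∀ i ∈ w, i < n) → ∀ l : Fin n → ℤ,
    List.ofFn (act M.toCoxeterSystem hA (elemOf M w) l) = evalL R w (List.ofFn l) := by
  intro w
  induction w with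
  | nil => intro _ l; rw [elemOf_nil, act_one]; rfl
  | cons i w ih =>
    intro hw l
    have hi : i < n := hw i (List.mem_cons_self ..)
    have hfi : Fin.ofNat n i = ⟨i, hi⟩ := Fin.ext (Nat.mod_eq_of_lt hi)
    have e : evalL R (i :: w) (List.ofFn l) = stepL (R.getD i []) i (evalL R w (List.ofFn l)) := rfl
    rw [e, ← ih (fun j hj => hw j (List.mem_cons_of_mem _ hj)) l, elemOf_cons, hfi, ← hR]
    apply List.ext_getElem
    · simp [stepL, hi]
    · intro j h1 h2
      rw [List.getElem_ofFn, act_simple_mul_apply]
      simp [stepL, hi]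

include hA in
theorem elemOf_eq_of_evalL {w w' : List ℕ} (hw : ∀ i ∈ w, i < n) (hw' : ∀ i ∈ w', i < n)
    (h : evalL R w (List.replicate n 1) = evalL R w' (List.replicate n 1)) :
    elemOf M w = elemOf M w' := by
  refine act_inj M.toCoxeterSystem hA (l := fun _ => 1) (fun _ => one_pos) ?_
  apply List.ofFn_injective
  rw [ofFn_act_elemOf hA hR w hw, ofFn_act_elemOf hA hR w' hw', List.ofFn_const, h]

include hA in
theorem elemOf_ne_of_evalL {w w' : List ℕ} (hw : ∀ i ∈ w, i < n) (hw' : ∀ i ∈ w', i < n)
    (l : Fin n → ℤ) (h : evalL R w (List.ofFn l) ≠ evalL R w' (List.ofFn l)) :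
    elemOf M w ≠ elemOf M w' := by
  intro heq
  rw [← ofFn_act_elemOf hA hR w hw, ← ofFn_act_elemOf hA hR w' hw', heq] at h
  exact h rfl

include hA in
/-- The order of an element, by computation. -/
theorem orderOf_of_evalL {w : List ℕ} {h : ℕ} (hh : 0 < h) (hw : ∀ i ∈ w, i < n)
    (h1 : evalL R (List.replicate h w).flatten (List.replicate n 1) = List.replicate n 1)
    (h2 : ∀ m < h, 0 < m →
      evalL R (List.replicate m w).flatten (List.replicate n 1) ≠ List.replicate n 1) :
    orderOf (elemOf M w) = h := by
  have hmem : ∀ m, ∀ i ∈ (List.replicate m w).flatten, i < n := by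
    intro m i hi
    obtain ⟨x, hx, hix⟩ := List.mem_flatten.1 hi
    rw [List.eq_of_mem_replicate hx] at hix
    exact hw i hix
  rw [orderOf_eq_iff hh]
  refine ⟨?_, fun m hm h0 => ?_⟩
  · rw [elemOf_pow, ← elemOf_nil (M := M)]
    exact elemOf_eq_of_evalL hA hR (hmem h) (by simp) h1
  · rw [elemOf_pow, ← elemOf_nil (M := M)]
    refine elemOf_ne_of_evalL hA hR (hmem m) (by simp) (fun _ => 1) ?_
    rw [List.ofFn_const]
    exact h2 m hm h0

omit hR

/-- The parabolic subgroup on the first `k` nodes. -/
def par (M : CoxeterMatrix (Fin n)) (k : ℕ) : Subgroup M.Group :=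
  Subgroup.closure (M.toCoxeterSystem.simple '' {i : Fin n | i.val < k})

theorem par_zero : par M 0 = ⊥ := by
  have : {i : Fin n | i.val < 0} = ∅ := by ext; simp
  rw [par, this, Set.image_empty, Subgroup.closure_empty]

theorem card_par_zero : Nat.card (par M 0) = 1 := by rw [par_zero, Subgroup.card_bot]

theorem card_par_top : Nat.card (par M n) = Nat.card M.Group := by
  have : {i : Fin n | i.val < n} = Set.univ := by ext i; simp [i.isLt]
  rw [par, this, Set.image_univ, M.toCoxeterSystem.subgroup_closure_range_simple, Subgroup.card_top]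

theorem elemOf_mem_par {k : ℕ} : ∀ (w : List ℕ), (∀ i ∈ w, i < n) → (∀ i ∈ w, i < k) →
    elemOf M w ∈ par M k := by
  intro w
  induction w with
  | nil => intros; rw [elemOf_nil]; exact one_mem _
  | cons i w ih =>
    intro hn hk
    rw [elemOf_cons]
    refine mul_mem (Subgroup.subset_closure ⟨_, ?_, rfl⟩)
      (ih (fun j hj => hn j (List.mem_cons_of_mem _ hj)) (fun j hj => hk j (List.mem_cons_of_mem _ hj)))
    have hi : i % n = i := Nat.mod_eq_of_lt (hn i (List.mem_cons_self ..))
    change i % n < k
    rw [hi]; exact hk i (List.mem_cons_self ..)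

include hA in
theorem act_par_fix {k : ℕ} (l : Fin n → ℤ) (hl : ∀ i : Fin n, i.val < k → l i = 0) {h : M.Group}
    (hh : h ∈ par M k) : act M.toCoxeterSystem hA h l = l := by
  induction hh using Subgroup.closure_induction with
  | mem x hx =>
    obtain ⟨i, hi, rfl⟩ := hx
    rw [act_simple]
    funext j
    rw [refl_apply, hl i hi, mul_zero, sub_zero]
  | one => exact act_one _ _ _
  | mul x y _ _ hx hy => rw [act_mul, hy, hx]
  | inv x _ hx =>
    calc act M.toCoxeterSystem hA x⁻¹ l
        = act M.toCoxeterSystem hA x⁻¹ (act M.toCoxeterSystem hA x l) := by rw [hx]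
      _ = l := act_inv_act _ _ _ _

include hA hR in
/-- One step of the parabolic chain: the representatives give a bijection
`Fin m × W_k ≃ W_{k+1}`, and the table `trans` describes left multiplication by the generators. -/
theorem par_succ_spec {k : ℕ} {reps : List (List ℕ)} {trans : List (List (ℕ × List ℕ))}
    {keys : List ℤ} (hc : stepCheck R n k reps trans keys = true) :
    k < n ∧ (∀ r ∈ reps, ∀ i ∈ r, i ≤ k) ∧ [] ∈ reps ∧
      (∀ (a b : ℕ) (ha : a < reps.length) (hb : b < reps.length) (h h' : M.Group),
        h ∈ par M k → h' ∈ par M k →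
        elemOf M reps[a] * h = elemOf M reps[b] * h' → a = b ∧ h = h') ∧
      (∀ x ∈ par M (k + 1), ∃ a, ∃ ha : a < reps.length, ∃ h ∈ par M k,
        x = elemOf M reps[a] * h) ∧
      (∀ (s : Fin n) (a : ℕ) (ha : a < reps.length), s.val < k + 1 → ∀ h ∈ par M k,
        ∃ hb : ((trans.getD a []).getD s.val (0, [])).1 < reps.length, ∃ h' ∈ par M k,
          M.toCoxeterSystem.simple s * (elemOf M reps[a] * h) =
            elemOf M reps[((trans.getD a []).getD s.val (0, [])).1] * h') := by
  simp only [stepCheck, Bool.and_eq_true, decide_eq_true_eq, List.all_eq_true] at hc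
  obtain ⟨⟨⟨⟨⟨⟨hkn, hnil⟩, hkeys⟩, hsorted⟩, hrk⟩, htl⟩, htr⟩ := hc
  set cs := M.toCoxeterSystem
  have hrn : ∀ r ∈ reps, ∀ i ∈ r, i < n := fun r hr i hi => lt_of_le_of_lt (hrk r hr i hi) hkn
  let e : Fin n → ℤ := fun j => if j.val = k then 1 else 0
  have he : List.ofFn e = (List.replicate n 0).set k 1 := by
    apply List.ext_getElem
    · simp
    · intro j h1 h2
      simp [e, List.getElem_set, eq_comm]
  have hstep : ∀ (s : Fin n) (a : ℕ) (ha : a < reps.length), s.val < k + 1 → ∀ h ∈ par M k,
      ∃ hb : ((trans.getD a []).getD s.val (0, [])).1 < reps.length, ∃ h' ∈ par M k,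
        cs.simple s * (elemOf M reps[a] * h) =
          elemOf M reps[((trans.getD a []).getD s.val (0, [])).1] * h' := by
    intro s a ha hs h hh
    have hr : reps[a] ∈ reps := List.getElem_mem ha
    have ha' : a < trans.length := by omega
    have hz : (reps[a], trans[a]) ∈ reps.zip trans := by
      rw [List.mem_iff_getElem]
      exact ⟨a, by simp; omega, by simp⟩
    obtain ⟨hlen, hall⟩ := htr _ hz
    simp only at hlen
    have hs' : s.val < trans[a].length := by omega
    have hp : ((trans[a])[s.val], s.val) ∈ (trans[a]).zip (List.range (k + 1)) := by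
      rw [List.mem_iff_getElem]
      exact ⟨s.val, by simp; omega, by simp⟩
    obtain ⟨⟨hidx, hh'⟩, hev⟩ := hall _ hp
    simp only at hidx hh' hev
    have hget : (trans.getD a []).getD s.val (0, []) = (trans[a])[s.val] := by
      rw [List.getD_eq_getElem _ _ ha', List.getD_eq_getElem _ _ hs']
    simp only [hget]
    set p := (trans[a])[s.val]
    refine ⟨hidx, elemOf M p.2 * h,
      mul_mem (elemOf_mem_par p.2 (fun i hi => lt_trans (hh' i hi) hkn) hh') hh, ?_⟩
    rw [List.getD_eq_getElem _ _ hidx] at hev
    have := elemOf_eq_of_evalL hA hR (M := M)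
      (w := s.val :: reps[a]) (w' := reps[p.1] ++ p.2) ?_ ?_ hev
    · rw [elemOf_cons, elemOf_append, Fin.ofNat_val_eq_self] at this
      rw [← mul_assoc, this, mul_assoc]
    · intro i hi
      rcases List.mem_cons.1 hi with rfl | hi
      · exact s.isLt
      · exact hrn _ hr i hi
    · intro i hi
      rcases List.mem_append.1 hi with hi | hi
      · exact hrn _ (List.getElem_mem hidx) i hi
      · exact lt_trans (hh' i hi) hkn
  have hcover : ∀ x ∈ par M (k + 1), ∃ a, ∃ ha : a < reps.length, ∃ h ∈ par M k,
      x = elemOf M reps[a] * h := by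
    intro x hx
    induction hx using Subgroup.closure_induction_left with
    | one =>
      obtain ⟨a, ha, hae⟩ := List.getElem_of_mem hnil
      exact ⟨a, ha, 1, one_mem _, by rw [hae, elemOf_nil, mul_one]⟩
    | mul_left s hs y _ ih =>
      obtain ⟨i, hi, rfl⟩ := hs
      obtain ⟨a, ha, h, hh, rfl⟩ := ih
      obtain ⟨hb, h', hh', e⟩ := hstep i a ha hi h hh
      exact ⟨_, hb, h', hh', e⟩
    | inv_mul_cancel s hs y _ ih =>
      obtain ⟨i, hi, rfl⟩ := hs
      obtain ⟨a, ha, h, hh, rfl⟩ := ih
      obtain ⟨hb, h', hh', e⟩ := hstep i a ha hi h hh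
      rw [cs.inv_simple]
      exact ⟨_, hb, h', hh', e⟩
  have hdist : ∀ (a b : ℕ) (ha : a < reps.length) (hb : b < reps.length) (h h' : M.Group),
      h ∈ par M k → h' ∈ par M k →
      elemOf M reps[a] * h = elemOf M reps[b] * h' → a = b := by
    intro a b ha hb h h' hh hh' heq
    have hfix : ∀ i : Fin n, i.val < k → e i = 0 := fun i hi => by simp [e, hi.ne]
    have := congrArg (fun w => keyOf (List.ofFn (act cs hA w e))) heq
    simp only [act_mul, act_par_fix hA e hfix hh, act_par_fix hA e hfix hh',
      cs, ofFn_act_elemOf hA hR _ (hrn _ (List.getElem_mem ha)),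
      ofFn_act_elemOf hA hR _ (hrn _ (List.getElem_mem hb)), he] at this
    have hnd : keys.Nodup :=
      (pairwise_of_sortedB hsorted).imp (fun h => h.ne)
    subst hkeys
    refine (hnd.getElem_inj_iff (hi := by simpa using ha) (hj := by simpa using hb)).1 ?_
    simpa using this
  refine ⟨hkn, hrk, hnil, fun a b ha hb h h' hh hh' heq => ?_, hcover, hstep⟩
  obtain rfl := hdist a b ha hb h h' hh hh' heq
  exact ⟨rfl, mul_left_cancel heq⟩

theorem par_mono (k : ℕ) : par M k ≤ par M (k + 1) :=
  Subgroup.closure_mono (Set.image_mono fun i (hi : i.val < k) => Nat.lt_succ_of_lt hi)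

include hA hR in
theorem elemOf_rep_mem {k : ℕ} {reps : List (List ℕ)} {trans : List (List (ℕ × List ℕ))}
    {keys : List ℤ} (hc : stepCheck R n k reps trans keys = true) {r : List ℕ} (hr : r ∈ reps) :
    elemOf M r ∈ par M (k + 1) := by
  obtain ⟨hkn, hrk, -⟩ := par_succ_spec hA hR hc
  exact elemOf_mem_par r (fun i hi => lt_of_le_of_lt (hrk r hr i hi) hkn)
    (fun i hi => Nat.lt_succ_of_le (hrk r hr i hi))

include hA hR in
/-- The order of one step of the parabolic chain. -/
theorem card_par_succ {k : ℕ} {reps : List (List ℕ)} {trans : List (List (ℕ × List ℕ))}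
    {keys : List ℤ} (hc : stepCheck R n k reps trans keys = true) :
    Nat.card (par M (k + 1)) = reps.length * Nat.card (par M k) := by
  obtain ⟨-, -, -, hinj, hcover, -⟩ := par_succ_spec hA hR hc
  let f : Fin reps.length × par M k → par M (k + 1) := fun p =>
    ⟨elemOf M reps[p.1.val] * p.2.1,
      mul_mem (elemOf_rep_mem hA hR hc (List.getElem_mem p.1.isLt)) (par_mono k p.2.2)⟩
  have hf : Function.Bijective f := by
    constructor
    · rintro ⟨⟨a, ha⟩, h, hh⟩ ⟨⟨b, hb⟩, h', hh'⟩ heq
      obtain ⟨rfl, rfl⟩ := hinj a b ha hb h h' hh hh' (congrArg Subtype.val heq)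
      rfl
    · rintro ⟨x, hx⟩
      obtain ⟨a, ha, h, hh, rfl⟩ := hcover x hx
      exact ⟨⟨⟨a, ha⟩, h, hh⟩, rfl⟩
  rw [← Nat.card_congr (Equiv.ofBijective f hf), Nat.card_prod, Nat.card_fin]

end Cfsg.Agent.Coxeter
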