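import Cfsg.Agent.Lib.Coxeter.Compute

/-!
# Parabolic chain certificate for the Coxeter group E₆

Tables checked by the kernel: `e6_check k` and `e6_len k` for each node `k`, with
`e6R` the Cartan rows (generated data).
-/

set_option autoImplicit false

namespace Cfsg.Agent.Coxeter

/-- Cartan rows for e6. -/
def e6R : List (List ℤ) := [[2,0,-1,0,0,0], [0,2,0,-1,0,0], [-1,0,2,-1,0,0], [0,-1,-1,2,-1,0], [0,0,0,-1,2,-1], [0,0,0,0,-1,2]]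

def e6Reps0_0 : List (List ℕ) := [[0],
  []]

def e6Reps0 : List (List ℕ) := [e6Reps0_0].flatten

def e6Trans0_0 : List (List (ℕ × List ℕ)) := [[(1,[])],
  [(0,[])]]

def e6Trans0 : List (List (ℕ × List ℕ)) := [e6Trans0_0].flatten

def e6Keys0_0 : List ℤ := [-1125898833100800,
  1125899906842624]

def e6Keys0 : List ℤ := [e6Keys0_0].flatten

theorem e6_check0 : stepCheck e6R 6 0 e6Reps0 e6Trans0 e6Keys0 = true := by decide +kernel

theorem e6_len0 : e6Reps0.length = 2 := by decide +kernel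

def e6Reps1_0 : List (List ℕ) := [[1],
  []]

def e6Reps1 : List (List ℕ) := [e6Reps1_0].flatten

def e6Trans1_0 : List (List (ℕ × List ℕ)) := [[(0,[0]),(1,[])],
  [(1,[0]),(0,[])]]

def e6Trans1 : List (List (ℕ × List ℕ)) := [e6Trans1_0].flatten

def e6Keys1_0 : List ℤ := [-1099510579200,
  1099511627776]

def e6Keys1 : List ℤ := [e6Keys1_0].flatten

theorem e6_check1 : stepCheck e6R 6 1 e6Reps1 e6Trans1 e6Keys1 = true := by decide +kernel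

theorem e6_len1 : e6Reps1.length = 2 := by decide +kernel

def e6Reps2_0 : List (List ℕ) := [[0,2],
  [],
  [2]]

def e6Reps2 : List (List ℕ) := [e6Reps2_0].flatten

def e6Trans2_0 : List (List (ℕ × List ℕ)) := [[(2,[]),(0,[1]),(0,[0])],
  [(1,[0]),(1,[1]),(2,[])],
  [(0,[]),(2,[1]),(1,[])]]

def e6Trans2 : List (List (ℕ × List ℕ)) := [e6Trans2_0].flatten

def e6Keys2_0 : List ℤ := [-1125899905794048,
  1073741824,
  1125898834149376]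

def e6Keys2 : List ℤ := [e6Keys2_0].flatten

theorem e6_check2 : stepCheck e6R 6 2 e6Reps2 e6Trans2 e6Keys2 = true := by decide +kernel

theorem e6_len2 : e6Reps2.length = 3 := by decide +kernel

def e6Reps3_0 : List (List ℕ) := [[0,2,1,3],
  [3,0,2,1,3],
  [0,2,3],
  [1,3],
  [2,3,0,2,1,3],
  [],
  [3],
  [2,1,3],
  [3,2,1,3],
  [2,3]]

def e6Reps3 : List (List ℕ) := [e6Reps3_0].flatten

def e6Trans3_0 : List (List (ℕ × List ℕ)) := [[(7,[]),(2,[]),(0,[0]),(1,[])],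
  [(8,[]),(1,[2]),(4,[]),(0,[])],
  [(9,[]),(0,[]),(2,[0]),(2,[2])],
  [(3,[0]),(6,[]),(7,[]),(3,[1])],
  [(4,[1]),(4,[2]),(1,[]),(4,[0])],
  [(5,[0]),(5,[1]),(5,[2]),(6,[])],
  [(6,[0]),(3,[]),(9,[]),(5,[])],
  [(0,[]),(9,[]),(3,[]),(8,[])],
  [(1,[]),(8,[2]),(8,[1]),(7,[])],
  [(2,[]),(7,[]),(6,[]),(9,[2])]]

def e6Trans3 : List (List (ℕ × List ℕ)) := [e6Trans3_0].flatten

def e6Keys3_0 : List ℤ := [-1126999417420800,
  -1125898834147328,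
  -1124800395213824,
  -1098437884928,
  -1073739776,
  1048576,
  1100584322048,
  1124799322522624,
  1125899905796096,
  1126998344729600]

def e6Keys3 : List ℤ := [e6Keys3_0].flatten

theorem e6_check3 : stepCheck e6R 6 3 e6Reps3 e6Trans3 e6Keys3 = true := by decide +kernel

theorem e6_len3 : e6Reps3.length = 10 := by decide +kernel

def e6Reps4_0 : List (List ℕ) := [[0,2,1,3,4],
  [3,0,2,1,3,4],
  [4,3,0,2,1,3,4],
  [0,2,3,4],
  [1,3,4,2,3,0,2,1,3,4],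
  [1,3,4],
  [2,3,0,2,1,3,4],
  [4,2,3,0,2,1,3,4],
  [],
  [4],
  [3,4,2,3,0,2,1,3,4],
  [3,4]]

def e6Reps4_1 : List (List ℕ) := [[2,1,3,4],
  [3,2,1,3,4],
  [4,3,2,1,3,4],
  [2,3,4]]

def e6Reps4 : List (List ℕ) := [e6Reps4_0, e6Reps4_1].flatten

def e6Trans4_0 : List (List (ℕ × List ℕ)) := [[(12,[]),(3,[]),(0,[0]),(1,[]),(0,[3])],
  [(13,[]),(1,[2]),(6,[]),(0,[]),(2,[])],
  [(14,[]),(2,[2]),(7,[]),(2,[3]),(1,[])],
  [(15,[]),(0,[]),(3,[0]),(3,[2]),(3,[3])],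
  [(4,[1]),(10,[]),(4,[3]),(4,[2]),(4,[0])],
  [(5,[0]),(11,[]),(12,[]),(5,[1]),(5,[3])],
  [(6,[1]),(6,[2]),(1,[]),(6,[0]),(7,[])],
  [(7,[1]),(7,[2]),(2,[]),(10,[]),(6,[])],
  [(8,[0]),(8,[1]),(8,[2]),(8,[3]),(9,[])],
  [(9,[0]),(9,[1]),(9,[2]),(11,[]),(8,[])],
  [(10,[1]),(4,[]),(10,[3]),(7,[]),(10,[0])],
  [(11,[0]),(5,[]),(15,[]),(9,[]),(11,[3])]]

def e6Trans4_1 : List (List (ℕ × List ℕ)) := [[(0,[]),(15,[]),(5,[]),(13,[]),(12,[3])],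
  [(1,[]),(13,[2]),(13,[1]),(12,[]),(14,[])],
  [(2,[]),(14,[2]),(14,[1]),(14,[3]),(13,[])],
  [(3,[]),(12,[]),(11,[]),(15,[2]),(15,[3])]]

def e6Trans4 : List (List (ℕ × List ℕ)) := [e6Trans4_0, e6Trans4_1].flatten

def e6Keys4_0 : List ℤ := [-1126999417421823,
  -1125898834148351,
  -1125898833101822,
  -1124800395214847,
  -1099511627774,
  -1098437885951,
  -1073740799,
  -1072694270,
  1024,
  1047553,
  1099510579202,
  1100584321025]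

def e6Keys4_1 : List ℤ := [1124799322521601,
  1125899905795073,
  1125899906841602,
  1126998344728577]

def e6Keys4 : List ℤ := [e6Keys4_0, e6Keys4_1].flatten

theorem e6_check4 : stepCheck e6R 6 4 e6Reps4 e6Trans4 e6Keys4 = true := by decide +kernel

theorem e6_len4 : e6Reps4.length = 16 := by decide +kernel

def e6Reps5_0 : List (List ℕ) := [[0,2,1,3,4,5],
  [0,2,3,4,5,1,3,4,2,3,0,2,1,3,4,5],
  [3,0,2,1,3,4,5],
  [4,3,0,2,1,3,4,5],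
  [5,4,3,0,2,1,3,4,5],
  [0,2,3,4,5],
  [1,3,4,2,3,0,2,1,3,4,5],
  [5,1,3,4,2,3,0,2,1,3,4,5],
  [4,5,1,3,4,2,3,0,2,1,3,4,5],
  [1,3,4,5],
  [2,3,0,2,1,3,4,5],
  [4,2,3,0,2,1,3,4,5]]

def e6Reps5_1 : List (List ℕ) := [[5,4,2,3,0,2,1,3,4,5],
  [],
  [5],
  [4,5],
  [3,4,5,1,3,4,2,3,0,2,1,3,4,5],
  [3,4,2,3,0,2,1,3,4,5],
  [5,3,4,2,3,0,2,1,3,4,5],
  [4,5,3,4,2,3,0,2,1,3,4,5],
  [3,4,5],
  [2,1,3,4,5],
  [2,3,4,5,1,3,4,2,3,0,2,1,3,4,5],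
  [3,2,1,3,4,5]]

def e6Reps5_2 : List (List ℕ) := [[4,3,2,1,3,4,5],
  [5,4,3,2,1,3,4,5],
  [2,3,4,5]]

def e6Reps5 : List (List ℕ) := [e6Reps5_0, e6Reps5_1, e6Reps5_2].flatten

def e6Trans5_0 : List (List (ℕ × List ℕ)) := [[(21,[]),(5,[]),(0,[0]),(2,[]),(0,[3]),(0,[4])],
  [(22,[]),(1,[4]),(1,[1]),(1,[3]),(1,[2]),(1,[0])],
  [(23,[]),(2,[2]),(10,[]),(0,[]),(3,[]),(2,[4])],
  [(24,[]),(3,[2]),(11,[]),(3,[3]),(2,[]),(4,[])],
  [(25,[]),(4,[2]),(12,[]),(4,[3]),(4,[4]),(3,[])],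
  [(26,[]),(0,[]),(5,[0]),(5,[2]),(5,[3]),(5,[4])],
  [(6,[1]),(17,[]),(6,[3]),(6,[2]),(6,[0]),(7,[])],
  [(7,[1]),(18,[]),(7,[3]),(7,[2]),(8,[]),(6,[])],
  [(8,[1]),(19,[]),(8,[3]),(16,[]),(7,[]),(8,[0])],
  [(9,[0]),(20,[]),(21,[]),(9,[1]),(9,[3]),(9,[4])],
  [(10,[1]),(10,[2]),(2,[]),(10,[0]),(11,[]),(10,[4])],
  [(11,[1]),(11,[2]),(3,[]),(17,[]),(10,[]),(12,[])]]

def e6Trans5_1 : List (List (ℕ × List ℕ)) := [[(12,[1]),(12,[2]),(4,[]),(18,[]),(12,[4]),(11,[])],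
  [(13,[0]),(13,[1]),(13,[2]),(13,[3]),(13,[4]),(14,[])],
  [(14,[0]),(14,[1]),(14,[2]),(14,[3]),(15,[]),(13,[])],
  [(15,[0]),(15,[1]),(15,[2]),(20,[]),(14,[]),(15,[4])],
  [(16,[1]),(16,[4]),(22,[]),(8,[]),(16,[2]),(16,[0])],
  [(17,[1]),(6,[]),(17,[3]),(11,[]),(17,[0]),(18,[])],
  [(18,[1]),(7,[]),(18,[3]),(12,[]),(19,[]),(17,[])],
  [(19,[1]),(8,[]),(19,[3]),(19,[4]),(18,[]),(19,[0])],
  [(20,[0]),(9,[]),(26,[]),(15,[]),(20,[3]),(20,[4])],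
  [(0,[]),(26,[]),(9,[]),(23,[]),(21,[3]),(21,[4])],
  [(1,[]),(22,[4]),(16,[]),(22,[3]),(22,[2]),(22,[0])],
  [(2,[]),(23,[2]),(23,[1]),(21,[]),(24,[]),(23,[4])]]

def e6Trans5_2 : List (List (ℕ × List ℕ)) := [[(3,[]),(24,[2]),(24,[1]),(24,[3]),(23,[]),(25,[])],
  [(4,[]),(25,[2]),(25,[1]),(25,[3]),(25,[4]),(24,[])],
  [(5,[]),(21,[]),(20,[]),(26,[2]),(26,[3]),(26,[4])]]

def e6Trans5 : List (List (ℕ × List ℕ)) := [e6Trans5_0, e6Trans5_1, e6Trans5_2].flatten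

def e6Keys5_0 : List ℤ := [-1126999417421824,
  -1125899906842624,
  -1125898834148352,
  -1125898833101823,
  -1125898833100801,
  -1124800395214848,
  -1099511627775,
  -1099511626753,
  -1099510580224,
  -1098437885952,
  -1073740800,
  -1072694271]

def e6Keys5_1 : List ℤ := [-1072693249,
  1,
  1023,
  1047552,
  1072693248,
  1099510579201,
  1099510580223,
  1099511626752,
  1100584321024,
  1124799322521600,
  1125898833100800,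
  1125899905795072]

def e6Keys5_2 : List ℤ := [1125899906841601,
  1125899906842623,
  1126998344728576]

def e6Keys5 : List ℤ := [e6Keys5_0, e6Keys5_1, e6Keys5_2].flatten

theorem e6_check5 : stepCheck e6R 6 5 e6Reps5 e6Trans5 e6Keys5 = true := by decide +kernel

theorem e6_len5 : e6Reps5.length = 27 := by decide +kernel

end Cfsg.Agent.Coxeter
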