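import Cfsg.Agent.Lib.Coxeter.Compute

/-!
# Parabolic chain certificate for the Coxeter group E₇

Tables checked by the kernel: `e7_check k` and `e7_len k` for each node `k`, with
`e7R` the Cartan rows (generated data).
-/

set_option autoImplicit false

namespace Cfsg.Agent.Coxeter

/-- Cartan rows for e7. -/
def e7R : List (List ℤ) := [[2,0,-1,0,0,0,0], [0,2,0,-1,0,0,0], [-1,0,2,-1,0,0,0], [0,-1,-1,2,-1,0,0], [0,0,0,-1,2,-1,0], [0,0,0,0,-1,2,-1], [0,0,0,0,0,-1,2]]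

def e7Reps0_0 : List (List ℕ) := [[0],
  []]

def e7Reps0 : List (List ℕ) := [e7Reps0_0].flatten

def e7Trans0_0 : List (List (ℕ × List ℕ)) := [[(1,[])],
  [(0,[])]]

def e7Trans0 : List (List (ℕ × List ℕ)) := [e7Trans0_0].flatten

def e7Keys0_0 : List ℤ := [-1152920405095219200,
  1152921504606846976]

def e7Keys0 : List ℤ := [e7Keys0_0].flatten

theorem e7_check0 : stepCheck e7R 7 0 e7Reps0 e7Trans0 e7Keys0 = true := by decide +kernel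

theorem e7_len0 : e7Reps0.length = 2 := by decide +kernel

def e7Reps1_0 : List (List ℕ) := [[1],
  []]

def e7Reps1 : List (List ℕ) := [e7Reps1_0].flatten

def e7Trans1_0 : List (List (ℕ × List ℕ)) := [[(0,[0]),(1,[])],
  [(1,[0]),(0,[])]]

def e7Trans1 : List (List (ℕ × List ℕ)) := [e7Trans1_0].flatten

def e7Keys1_0 : List ℤ := [-1125898833100800,
  1125899906842624]

def e7Keys1 : List ℤ := [e7Keys1_0].flatten

theorem e7_check1 : stepCheck e7R 7 1 e7Reps1 e7Trans1 e7Keys1 = true := by decide +kernel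

theorem e7_len1 : e7Reps1.length = 2 := by decide +kernel

def e7Reps2_0 : List (List ℕ) := [[0,2],
  [],
  [2]]

def e7Reps2 : List (List ℕ) := [e7Reps2_0].flatten

def e7Trans2_0 : List (List (ℕ × List ℕ)) := [[(2,[]),(0,[1]),(0,[0])],
  [(1,[0]),(1,[1]),(2,[])],
  [(0,[]),(2,[1]),(1,[])]]

def e7Trans2 : List (List (ℕ × List ℕ)) := [e7Trans2_0].flatten

def e7Keys2_0 : List ℤ := [-1152921503533105152,
  1099511627776,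
  1152920406168961024]

def e7Keys2 : List ℤ := [e7Keys2_0].flatten

theorem e7_check2 : stepCheck e7R 7 2 e7Reps2 e7Trans2 e7Keys2 = true := by decide +kernel

theorem e7_len2 : e7Reps2.length = 3 := by decide +kernel

def e7Reps3_0 : List (List ℕ) := [[0,2,1,3],
  [3,0,2,1,3],
  [0,2,3],
  [1,3],
  [2,3,0,2,1,3],
  [],
  [3],
  [2,1,3],
  [3,2,1,3],
  [2,3]]

def e7Reps3 : List (List ℕ) := [e7Reps3_0].flatten

def e7Trans3_0 : List (List (ℕ × List ℕ)) := [[(7,[]),(2,[]),(0,[0]),(1,[])],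
  [(8,[]),(1,[2]),(4,[]),(0,[])],
  [(9,[]),(0,[]),(2,[0]),(2,[2])],
  [(3,[0]),(6,[]),(7,[]),(3,[1])],
  [(4,[1]),(4,[2]),(1,[]),(4,[0])],
  [(5,[0]),(5,[1]),(5,[2]),(6,[])],
  [(6,[0]),(3,[]),(9,[]),(5,[])],
  [(0,[]),(9,[]),(3,[]),(8,[])],
  [(1,[]),(8,[2]),(8,[1]),(7,[])],
  [(2,[]),(7,[]),(6,[]),(9,[2])]]

def e7Trans3 : List (List (ℕ × List ℕ)) := [e7Trans3_0].flatten

def e7Keys3_0 : List ℤ := [-1154047403438899200,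
  -1152920406166863872,
  -1151795604698955776,
  -1124800394166272,
  -1099509530624,
  1073741824,
  1126998345777152,
  1151794506263166976,
  1152921503535202304,
  1154046305003110400]

def e7Keys3 : List ℤ := [e7Keys3_0].flatten

theorem e7_check3 : stepCheck e7R 7 3 e7Reps3 e7Trans3 e7Keys3 = true := by decide +kernel

theorem e7_len3 : e7Reps3.length = 10 := by decide +kernel

def e7Reps4_0 : List (List ℕ) := [[0,2,1,3,4],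
  [3,0,2,1,3,4],
  [4,3,0,2,1,3,4],
  [0,2,3,4],
  [1,3,4,2,3,0,2,1,3,4],
  [1,3,4],
  [2,3,0,2,1,3,4],
  [4,2,3,0,2,1,3,4],
  [],
  [4],
  [3,4,2,3,0,2,1,3,4],
  [3,4]]

def e7Reps4_1 : List (List ℕ) := [[2,1,3,4],
  [3,2,1,3,4],
  [4,3,2,1,3,4],
  [2,3,4]]

def e7Reps4 : List (List ℕ) := [e7Reps4_0, e7Reps4_1].flatten

def e7Trans4_0 : List (List (ℕ × List ℕ)) := [[(12,[]),(3,[]),(0,[0]),(1,[]),(0,[3])],
  [(13,[]),(1,[2]),(6,[]),(0,[]),(2,[])],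
  [(14,[]),(2,[2]),(7,[]),(2,[3]),(1,[])],
  [(15,[]),(0,[]),(3,[0]),(3,[2]),(3,[3])],
  [(4,[1]),(10,[]),(4,[3]),(4,[2]),(4,[0])],
  [(5,[0]),(11,[]),(12,[]),(5,[1]),(5,[3])],
  [(6,[1]),(6,[2]),(1,[]),(6,[0]),(7,[])],
  [(7,[1]),(7,[2]),(2,[]),(10,[]),(6,[])],
  [(8,[0]),(8,[1]),(8,[2]),(8,[3]),(9,[])],
  [(9,[0]),(9,[1]),(9,[2]),(11,[]),(8,[])],
  [(10,[1]),(4,[]),(10,[3]),(7,[]),(10,[0])],
  [(11,[0]),(5,[]),(15,[]),(9,[]),(11,[3])]]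

def e7Trans4_1 : List (List (ℕ × List ℕ)) := [[(0,[]),(15,[]),(5,[]),(13,[]),(12,[3])],
  [(1,[]),(13,[2]),(13,[1]),(12,[]),(14,[])],
  [(2,[]),(14,[2]),(14,[1]),(14,[3]),(13,[])],
  [(3,[]),(12,[]),(11,[]),(15,[2]),(15,[3])]]

def e7Trans4 : List (List (ℕ × List ℕ)) := [e7Trans4_0, e7Trans4_1].flatten

def e7Keys4_0 : List ℤ := [-1154047403439946752,
  -1152920406167911424,
  -1152920405096265728,
  -1151795604700003328,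
  -1125899906840576,
  -1124800395213824,
  -1099510578176,
  -1098438932480,
  1048576,
  1072694272,
  1125898833102848,
  1126998344729600]

def e7Keys4_1 : List ℤ := [1151794506262119424,
  1152921503534154752,
  1152921504605800448,
  1154046305002062848]

def e7Keys4 : List ℤ := [e7Keys4_0, e7Keys4_1].flatten

theorem e7_check4 : stepCheck e7R 7 4 e7Reps4 e7Trans4 e7Keys4 = true := by decide +kernel

theorem e7_len4 : e7Reps4.length = 16 := by decide +kernel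

def e7Reps5_0 : List (List ℕ) := [[0,2,1,3,4,5],
  [0,2,3,4,5,1,3,4,2,3,0,2,1,3,4,5],
  [3,0,2,1,3,4,5],
  [4,3,0,2,1,3,4,5],
  [5,4,3,0,2,1,3,4,5],
  [0,2,3,4,5],
  [1,3,4,2,3,0,2,1,3,4,5],
  [5,1,3,4,2,3,0,2,1,3,4,5],
  [4,5,1,3,4,2,3,0,2,1,3,4,5],
  [1,3,4,5],
  [2,3,0,2,1,3,4,5],
  [4,2,3,0,2,1,3,4,5]]

def e7Reps5_1 : List (List ℕ) := [[5,4,2,3,0,2,1,3,4,5],
  [],
  [5],
  [4,5],
  [3,4,5,1,3,4,2,3,0,2,1,3,4,5],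
  [3,4,2,3,0,2,1,3,4,5],
  [5,3,4,2,3,0,2,1,3,4,5],
  [4,5,3,4,2,3,0,2,1,3,4,5],
  [3,4,5],
  [2,1,3,4,5],
  [2,3,4,5,1,3,4,2,3,0,2,1,3,4,5],
  [3,2,1,3,4,5]]

def e7Reps5_2 : List (List ℕ) := [[4,3,2,1,3,4,5],
  [5,4,3,2,1,3,4,5],
  [2,3,4,5]]

def e7Reps5 : List (List ℕ) := [e7Reps5_0, e7Reps5_1, e7Reps5_2].flatten

def e7Trans5_0 : List (List (ℕ × List ℕ)) := [[(21,[]),(5,[]),(0,[0]),(2,[]),(0,[3]),(0,[4])],
  [(22,[]),(1,[4]),(1,[1]),(1,[3]),(1,[2]),(1,[0])],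
  [(23,[]),(2,[2]),(10,[]),(0,[]),(3,[]),(2,[4])],
  [(24,[]),(3,[2]),(11,[]),(3,[3]),(2,[]),(4,[])],
  [(25,[]),(4,[2]),(12,[]),(4,[3]),(4,[4]),(3,[])],
  [(26,[]),(0,[]),(5,[0]),(5,[2]),(5,[3]),(5,[4])],
  [(6,[1]),(17,[]),(6,[3]),(6,[2]),(6,[0]),(7,[])],
  [(7,[1]),(18,[]),(7,[3]),(7,[2]),(8,[]),(6,[])],
  [(8,[1]),(19,[]),(8,[3]),(16,[]),(7,[]),(8,[0])],
  [(9,[0]),(20,[]),(21,[]),(9,[1]),(9,[3]),(9,[4])],
  [(10,[1]),(10,[2]),(2,[]),(10,[0]),(11,[]),(10,[4])],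
  [(11,[1]),(11,[2]),(3,[]),(17,[]),(10,[]),(12,[])]]

def e7Trans5_1 : List (List (ℕ × List ℕ)) := [[(12,[1]),(12,[2]),(4,[]),(18,[]),(12,[4]),(11,[])],
  [(13,[0]),(13,[1]),(13,[2]),(13,[3]),(13,[4]),(14,[])],
  [(14,[0]),(14,[1]),(14,[2]),(14,[3]),(15,[]),(13,[])],
  [(15,[0]),(15,[1]),(15,[2]),(20,[]),(14,[]),(15,[4])],
  [(16,[1]),(16,[4]),(22,[]),(8,[]),(16,[2]),(16,[0])],
  [(17,[1]),(6,[]),(17,[3]),(11,[]),(17,[0]),(18,[])],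
  [(18,[1]),(7,[]),(18,[3]),(12,[]),(19,[]),(17,[])],
  [(19,[1]),(8,[]),(19,[3]),(19,[4]),(18,[]),(19,[0])],
  [(20,[0]),(9,[]),(26,[]),(15,[]),(20,[3]),(20,[4])],
  [(0,[]),(26,[]),(9,[]),(23,[]),(21,[3]),(21,[4])],
  [(1,[]),(22,[4]),(16,[]),(22,[3]),(22,[2]),(22,[0])],
  [(2,[]),(23,[2]),(23,[1]),(21,[]),(24,[]),(23,[4])]]

def e7Trans5_2 : List (List (ℕ × List ℕ)) := [[(3,[]),(24,[2]),(24,[1]),(24,[3]),(23,[]),(25,[])],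
  [(4,[]),(25,[2]),(25,[1]),(25,[3]),(25,[4]),(24,[])],
  [(5,[]),(21,[]),(20,[]),(26,[2]),(26,[3]),(26,[4])]]

def e7Trans5 : List (List (ℕ × List ℕ)) := [e7Trans5_0, e7Trans5_1, e7Trans5_2].flatten

def e7Keys5_0 : List ℤ := [-1154047403439947775,
  -1152921504606846974,
  -1152920406167912447,
  -1152920405096266751,
  -1152920405095220222,
  -1151795604700004351,
  -1125899906841599,
  -1125899905795070,
  -1125898834149374,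
  -1124800395214847,
  -1099510579199,
  -1098438933503]

def e7Keys5_1 : List ℤ := [-1098437886974,
  1024,
  1047553,
  1072693249,
  1098437885954,
  1125898833101825,
  1125898834148354,
  1125899905794050,
  1126998344728577,
  1151794506262118401,
  1152920405095219202,
  1152921503534153729]

def e7Keys5_2 : List ℤ := [1152921504605799425,
  1152921504606845954,
  1154046305002061825]

def e7Keys5 : List ℤ := [e7Keys5_0, e7Keys5_1, e7Keys5_2].flatten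

theorem e7_check5 : stepCheck e7R 7 5 e7Reps5 e7Trans5 e7Keys5 = true := by decide +kernel

theorem e7_len5 : e7Reps5.length = 27 := by decide +kernel

def e7Reps6_0 : List (List ℕ) := [[0,2,1,3,4,5,6],
  [1,3,4,5,6,0,2,3,4,5,1,3,4,2,3,0,2,1,3,4,5,6],
  [0,2,3,4,5,1,3,4,2,3,0,2,1,3,4,5,6],
  [6,0,2,3,4,5,1,3,4,2,3,0,2,1,3,4,5,6],
  [5,6,0,2,3,4,5,1,3,4,2,3,0,2,1,3,4,5,6],
  [4,5,6,0,2,3,4,5,1,3,4,2,3,0,2,1,3,4,5,6],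
  [3,0,2,1,3,4,5,6],
  [4,3,0,2,1,3,4,5,6],
  [5,4,3,0,2,1,3,4,5,6],
  [6,5,4,3,0,2,1,3,4,5,6],
  [0,2,3,4,5,6],
  [3,4,5,6,0,2,3,4,5,1,3,4,2,3,0,2,1,3,4,5,6]]

def e7Reps6_1 : List (List ℕ) := [[2,1,3,4,5,6,0,2,3,4,5,1,3,4,2,3,0,2,1,3,4,5,6],
  [1,3,4,2,3,0,2,1,3,4,5,6],
  [5,1,3,4,2,3,0,2,1,3,4,5,6],
  [6,5,1,3,4,2,3,0,2,1,3,4,5,6],
  [4,5,1,3,4,2,3,0,2,1,3,4,5,6],
  [6,4,5,1,3,4,2,3,0,2,1,3,4,5,6],
  [5,6,4,5,1,3,4,2,3,0,2,1,3,4,5,6],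
  [1,3,4,5,6],
  [2,3,0,2,1,3,4,5,6],
  [4,2,3,0,2,1,3,4,5,6],
  [5,4,2,3,0,2,1,3,4,5,6],
  [6,5,4,2,3,0,2,1,3,4,5,6]]

def e7Reps6_2 : List (List ℕ) := [[3,2,1,3,4,5,6,0,2,3,4,5,1,3,4,2,3,0,2,1,3,4,5,6],
  [4,3,2,1,3,4,5,6,0,2,3,4,5,1,3,4,2,3,0,2,1,3,4,5,6],
  [5,4,3,2,1,3,4,5,6,0,2,3,4,5,1,3,4,2,3,0,2,1,3,4,5,6],
  [6,5,4,3,2,1,3,4,5,6,0,2,3,4,5,1,3,4,2,3,0,2,1,3,4,5,6],
  [],
  [6],
  [5,6],
  [4,5,6],
  [3,4,5,1,3,4,2,3,0,2,1,3,4,5,6],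
  [6,3,4,5,1,3,4,2,3,0,2,1,3,4,5,6],
  [5,6,3,4,5,1,3,4,2,3,0,2,1,3,4,5,6],
  [4,5,6,3,4,5,1,3,4,2,3,0,2,1,3,4,5,6]]

def e7Reps6_3 : List (List ℕ) := [[2,3,4,5,6,0,2,3,4,5,1,3,4,2,3,0,2,1,3,4,5,6],
  [3,4,2,3,0,2,1,3,4,5,6],
  [5,3,4,2,3,0,2,1,3,4,5,6],
  [6,5,3,4,2,3,0,2,1,3,4,5,6],
  [4,5,3,4,2,3,0,2,1,3,4,5,6],
  [6,4,5,3,4,2,3,0,2,1,3,4,5,6],
  [5,6,4,5,3,4,2,3,0,2,1,3,4,5,6],
  [3,4,5,6],
  [2,1,3,4,5,6],
  [1,3,4,5,6,2,3,4,5,1,3,4,2,3,0,2,1,3,4,5,6],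
  [2,3,4,5,1,3,4,2,3,0,2,1,3,4,5,6],
  [6,2,3,4,5,1,3,4,2,3,0,2,1,3,4,5,6]]

def e7Reps6_4 : List (List ℕ) := [[5,6,2,3,4,5,1,3,4,2,3,0,2,1,3,4,5,6],
  [4,5,6,2,3,4,5,1,3,4,2,3,0,2,1,3,4,5,6],
  [3,2,1,3,4,5,6],
  [4,3,2,1,3,4,5,6],
  [5,4,3,2,1,3,4,5,6],
  [6,5,4,3,2,1,3,4,5,6],
  [2,3,4,5,6],
  [3,4,5,6,2,3,4,5,1,3,4,2,3,0,2,1,3,4,5,6]]

def e7Reps6 : List (List ℕ) := [e7Reps6_0, e7Reps6_1, e7Reps6_2, e7Reps6_3, e7Reps6_4].flatten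

def e7Trans6_0 : List (List (ℕ × List ℕ)) := [[(44,[]),(10,[]),(0,[0]),(6,[]),(0,[3]),(0,[4]),(0,[5])],
  [(45,[]),(11,[]),(12,[]),(1,[4]),(1,[3]),(1,[2]),(1,[0])],
  [(46,[]),(2,[4]),(2,[1]),(2,[3]),(2,[2]),(2,[0]),(3,[])],
  [(47,[]),(3,[4]),(3,[1]),(3,[3]),(3,[2]),(4,[]),(2,[])],
  [(48,[]),(4,[4]),(4,[1]),(4,[3]),(5,[]),(3,[]),(4,[0])],
  [(49,[]),(5,[4]),(5,[1]),(11,[]),(4,[]),(5,[2]),(5,[0])],
  [(50,[]),(6,[2]),(20,[]),(0,[]),(7,[]),(6,[4]),(6,[5])],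
  [(51,[]),(7,[2]),(21,[]),(7,[3]),(6,[]),(8,[]),(7,[5])],
  [(52,[]),(8,[2]),(22,[]),(8,[3]),(8,[4]),(7,[]),(9,[])],
  [(53,[]),(9,[2]),(23,[]),(9,[3]),(9,[4]),(9,[5]),(8,[])],
  [(54,[]),(0,[]),(10,[0]),(10,[2]),(10,[3]),(10,[4]),(10,[5])],
  [(55,[]),(1,[]),(36,[]),(5,[]),(11,[3]),(11,[2]),(11,[0])]]

def e7Trans6_1 : List (List (ℕ × List ℕ)) := [[(12,[5]),(36,[]),(1,[]),(24,[]),(12,[3]),(12,[2]),(12,[0])],
  [(13,[1]),(37,[]),(13,[3]),(13,[2]),(13,[0]),(14,[]),(13,[5])],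
  [(14,[1]),(38,[]),(14,[3]),(14,[2]),(16,[]),(13,[]),(15,[])],
  [(15,[1]),(39,[]),(15,[3]),(15,[2]),(17,[]),(15,[5]),(14,[])],
  [(16,[1]),(40,[]),(16,[3]),(32,[]),(14,[]),(16,[0]),(17,[])],
  [(17,[1]),(41,[]),(17,[3]),(33,[]),(15,[]),(18,[]),(16,[])],
  [(18,[1]),(42,[]),(18,[3]),(34,[]),(18,[5]),(17,[]),(18,[0])],
  [(19,[0]),(43,[]),(44,[]),(19,[1]),(19,[3]),(19,[4]),(19,[5])],
  [(20,[1]),(20,[2]),(6,[]),(20,[0]),(21,[]),(20,[4]),(20,[5])],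
  [(21,[1]),(21,[2]),(7,[]),(37,[]),(20,[]),(22,[]),(21,[5])],
  [(22,[1]),(22,[2]),(8,[]),(38,[]),(22,[4]),(21,[]),(23,[])],
  [(23,[1]),(23,[2]),(9,[]),(39,[]),(23,[4]),(23,[5]),(22,[])]]

def e7Trans6_2 : List (List (ℕ × List ℕ)) := [[(24,[5]),(24,[1]),(24,[4]),(12,[]),(25,[]),(24,[2]),(24,[0])],
  [(25,[5]),(25,[1]),(25,[4]),(25,[3]),(24,[]),(26,[]),(25,[0])],
  [(26,[5]),(26,[1]),(26,[4]),(26,[3]),(26,[2]),(25,[]),(27,[])],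
  [(27,[5]),(27,[1]),(27,[4]),(27,[3]),(27,[2]),(27,[0]),(26,[])],
  [(28,[0]),(28,[1]),(28,[2]),(28,[3]),(28,[4]),(28,[5]),(29,[])],
  [(29,[0]),(29,[1]),(29,[2]),(29,[3]),(29,[4]),(30,[]),(28,[])],
  [(30,[0]),(30,[1]),(30,[2]),(30,[3]),(31,[]),(29,[]),(30,[5])],
  [(31,[0]),(31,[1]),(31,[2]),(43,[]),(30,[]),(31,[4]),(31,[5])],
  [(32,[1]),(32,[4]),(46,[]),(16,[]),(32,[2]),(32,[0]),(33,[])],
  [(33,[1]),(33,[4]),(47,[]),(17,[]),(33,[2]),(34,[]),(32,[])],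
  [(34,[1]),(34,[4]),(48,[]),(18,[]),(35,[]),(33,[]),(34,[0])],
  [(35,[1]),(35,[4]),(49,[]),(35,[5]),(34,[]),(35,[2]),(35,[0])]]

def e7Trans6_3 : List (List (ℕ × List ℕ)) := [[(36,[5]),(12,[]),(11,[]),(36,[1]),(36,[3]),(36,[2]),(36,[0])],
  [(37,[1]),(13,[]),(37,[3]),(21,[]),(37,[0]),(38,[]),(37,[5])],
  [(38,[1]),(14,[]),(38,[3]),(22,[]),(40,[]),(37,[]),(39,[])],
  [(39,[1]),(15,[]),(39,[3]),(23,[]),(41,[]),(39,[5]),(38,[])],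
  [(40,[1]),(16,[]),(40,[3]),(40,[4]),(38,[]),(40,[0]),(41,[])],
  [(41,[1]),(17,[]),(41,[3]),(41,[4]),(39,[]),(42,[]),(40,[])],
  [(42,[1]),(18,[]),(42,[3]),(42,[4]),(42,[5]),(41,[]),(42,[0])],
  [(43,[0]),(19,[]),(54,[]),(31,[]),(43,[3]),(43,[4]),(43,[5])],
  [(0,[]),(54,[]),(19,[]),(50,[]),(44,[3]),(44,[4]),(44,[5])],
  [(1,[]),(55,[]),(45,[5]),(45,[4]),(45,[3]),(45,[2]),(45,[0])],
  [(2,[]),(46,[4]),(32,[]),(46,[3]),(46,[2]),(46,[0]),(47,[])],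
  [(3,[]),(47,[4]),(33,[]),(47,[3]),(47,[2]),(48,[]),(46,[])]]

def e7Trans6_4 : List (List (ℕ × List ℕ)) := [[(4,[]),(48,[4]),(34,[]),(48,[3]),(49,[]),(47,[]),(48,[0])],
  [(5,[]),(49,[4]),(35,[]),(55,[]),(48,[]),(49,[2]),(49,[0])],
  [(6,[]),(50,[2]),(50,[1]),(44,[]),(51,[]),(50,[4]),(50,[5])],
  [(7,[]),(51,[2]),(51,[1]),(51,[3]),(50,[]),(52,[]),(51,[5])],
  [(8,[]),(52,[2]),(52,[1]),(52,[3]),(52,[4]),(51,[]),(53,[])],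
  [(9,[]),(53,[2]),(53,[1]),(53,[3]),(53,[4]),(53,[5]),(52,[])],
  [(10,[]),(44,[]),(43,[]),(54,[2]),(54,[3]),(54,[4]),(54,[5])],
  [(11,[]),(45,[]),(55,[5]),(49,[]),(55,[3]),(55,[2]),(55,[0])]]

def e7Trans6 : List (List (ℕ × List ℕ)) := [e7Trans6_0, e7Trans6_1, e7Trans6_2, e7Trans6_3, e7Trans6_4].flatten

def e7Keys6_0 : List ℤ := [-1154047403439947776,
  -1154046305002061824,
  -1152921504606846975,
  -1152921504606845953,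
  -1152921504605799424,
  -1152921503534153728,
  -1152920406167912448,
  -1152920405096266752,
  -1152920405095220223,
  -1152920405095219201,
  -1151795604700004352,
  -1151794506262118400]

def e7Keys6_1 : List ℤ := [-1126998344728576,
  -1125899906841600,
  -1125899905795071,
  -1125899905794049,
  -1125898834149375,
  -1125898834148353,
  -1125898833101824,
  -1124800395214848,
  -1099510579200,
  -1098438933504,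
  -1098437886975,
  -1098437885953]

def e7Keys6_2 : List ℤ := [-1072693248,
  -1047552,
  -1023,
  -1,
  1,
  1023,
  1047552,
  1072693248,
  1098437885953,
  1098437886975,
  1098438933504,
  1099510579200]

def e7Keys6_3 : List ℤ := [1124800395214848,
  1125898833101824,
  1125898834148353,
  1125898834149375,
  1125899905794049,
  1125899905795071,
  1125899906841600,
  1126998344728576,
  1151794506262118400,
  1151795604700004352,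
  1152920405095219201,
  1152920405095220223]

def e7Keys6_4 : List ℤ := [1152920405096266752,
  1152920406167912448,
  1152921503534153728,
  1152921504605799424,
  1152921504606845953,
  1152921504606846975,
  1154046305002061824,
  1154047403439947776]

def e7Keys6 : List ℤ := [e7Keys6_0, e7Keys6_1, e7Keys6_2, e7Keys6_3, e7Keys6_4].flatten

theorem e7_check6 : stepCheck e7R 7 6 e7Reps6 e7Trans6 e7Keys6 = true := by decide +kernel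

theorem e7_len6 : e7Reps6.length = 56 := by decide +kernel

end Cfsg.Agent.Coxeter
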