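import Cfsg.Agent.Lib.Coxeter.Compute

/-!
# Parabolic chain certificate for the Coxeter group E₈

Tables checked by the kernel: `e8_check k` and `e8_len k` for each node `k`, with
`e8R` the Cartan rows (generated data).
-/

set_option autoImplicit false

namespace Cfsg.Agent.Coxeter

/-- Cartan rows for e8. -/
def e8R : List (List ℤ) := [[2,0,-1,0,0,0,0,0], [0,2,0,-1,0,0,0,0], [-1,0,2,-1,0,0,0,0], [0,-1,-1,2,-1,0,0,0], [0,0,0,-1,2,-1,0,0], [0,0,0,0,-1,2,-1,0], [0,0,0,0,0,-1,2,-1], [0,0,0,0,0,0,-1,2]]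

def e8Reps0_0 : List (List ℕ) := [[0],
  []]

def e8Reps0 : List (List ℕ) := [e8Reps0_0].flatten

def e8Trans0_0 : List (List (ℕ × List ℕ)) := [[(1,[])],
  [(0,[])]]

def e8Trans0 : List (List (ℕ × List ℕ)) := [e8Trans0_0].flatten

def e8Keys0_0 : List ℤ := [-1180590494817504460800,
  1180591620717411303424]

def e8Keys0 : List ℤ := [e8Keys0_0].flatten

theorem e8_check0 : stepCheck e8R 8 0 e8Reps0 e8Trans0 e8Keys0 = true := by decide +kernel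

theorem e8_len0 : e8Reps0.length = 2 := by decide +kernel

def e8Reps1_0 : List (List ℕ) := [[1],
  []]

def e8Reps1 : List (List ℕ) := [e8Reps1_0].flatten

def e8Trans1_0 : List (List (ℕ × List ℕ)) := [[(0,[0]),(1,[])],
  [(1,[0]),(0,[])]]

def e8Trans1 : List (List (ℕ × List ℕ)) := [e8Trans1_0].flatten

def e8Keys1_0 : List ℤ := [-1152920405095219200,
  1152921504606846976]

def e8Keys1 : List ℤ := [e8Keys1_0].flatten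

theorem e8_check1 : stepCheck e8R 8 1 e8Reps1 e8Trans1 e8Keys1 = true := by decide +kernel

theorem e8_len1 : e8Reps1.length = 2 := by decide +kernel

def e8Reps2_0 : List (List ℕ) := [[0,2],
  [],
  [2]]

def e8Reps2 : List (List ℕ) := [e8Reps2_0].flatten

def e8Trans2_0 : List (List (ℕ × List ℕ)) := [[(2,[]),(0,[1]),(0,[0])],
  [(1,[0]),(1,[1]),(2,[])],
  [(0,[]),(2,[1]),(1,[])]]

def e8Trans2 : List (List (ℕ × List ℕ)) := [e8Trans2_0].flatten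

def e8Keys2_0 : List ℤ := [-1180591619617899675648,
  1125899906842624,
  1180590495917016088576]

def e8Keys2 : List ℤ := [e8Keys2_0].flatten

theorem e8_check2 : stepCheck e8R 8 2 e8Reps2 e8Trans2 e8Keys2 = true := by decide +kernel

theorem e8_len2 : e8Reps2.length = 3 := by decide +kernel

def e8Reps3_0 : List (List ℕ) := [[0,2,1,3],
  [3,0,2,1,3],
  [0,2,3],
  [1,3],
  [2,3,0,2,1,3],
  [],
  [3],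
  [2,1,3],
  [3,2,1,3],
  [2,3]]

def e8Reps3 : List (List ℕ) := [e8Reps3_0].flatten

def e8Trans3_0 : List (List (ℕ × List ℕ)) := [[(7,[]),(2,[]),(0,[0]),(1,[])],
  [(8,[]),(1,[2]),(4,[]),(0,[])],
  [(9,[]),(0,[]),(2,[0]),(2,[2])],
  [(3,[0]),(6,[]),(7,[]),(3,[1])],
  [(4,[1]),(4,[2]),(1,[]),(4,[0])],
  [(5,[0]),(5,[1]),(5,[2]),(6,[])],
  [(6,[0]),(3,[]),(9,[]),(5,[])],
  [(0,[]),(9,[]),(3,[]),(8,[])],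
  [(1,[]),(8,[2]),(8,[1]),(7,[])],
  [(2,[]),(7,[]),(6,[]),(9,[2])]]

def e8Trans3 : List (List (ℕ × List ℕ)) := [e8Trans3_0].flatten

def e8Keys3_0 : List ℤ := [-1181744541121432780800,
  -1180590495914868604928,
  -1179438699211730714624,
  -1151795603626262528,
  -1125897759358976,
  1099511627776,
  1154046306075803648,
  1179437574413482983424,
  1180591619620047159296,
  1181743416323185049600]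

def e8Keys3 : List ℤ := [e8Keys3_0].flatten

theorem e8_check3 : stepCheck e8R 8 3 e8Reps3 e8Trans3 e8Keys3 = true := by decide +kernel

theorem e8_len3 : e8Reps3.length = 10 := by decide +kernel

def e8Reps4_0 : List (List ℕ) := [[0,2,1,3,4],
  [3,0,2,1,3,4],
  [4,3,0,2,1,3,4],
  [0,2,3,4],
  [1,3,4,2,3,0,2,1,3,4],
  [1,3,4],
  [2,3,0,2,1,3,4],
  [4,2,3,0,2,1,3,4],
  [],
  [4],
  [3,4,2,3,0,2,1,3,4],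
  [3,4]]

def e8Reps4_1 : List (List ℕ) := [[2,1,3,4],
  [3,2,1,3,4],
  [4,3,2,1,3,4],
  [2,3,4]]

def e8Reps4 : List (List ℕ) := [e8Reps4_0, e8Reps4_1].flatten

def e8Trans4_0 : List (List (ℕ × List ℕ)) := [[(12,[]),(3,[]),(0,[0]),(1,[]),(0,[3])],
  [(13,[]),(1,[2]),(6,[]),(0,[]),(2,[])],
  [(14,[]),(2,[2]),(7,[]),(2,[3]),(1,[])],
  [(15,[]),(0,[]),(3,[0]),(3,[2]),(3,[3])],
  [(4,[1]),(10,[]),(4,[3]),(4,[2]),(4,[0])],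
  [(5,[0]),(11,[]),(12,[]),(5,[1]),(5,[3])],
  [(6,[1]),(6,[2]),(1,[]),(6,[0]),(7,[])],
  [(7,[1]),(7,[2]),(2,[]),(10,[]),(6,[])],
  [(8,[0]),(8,[1]),(8,[2]),(8,[3]),(9,[])],
  [(9,[0]),(9,[1]),(9,[2]),(11,[]),(8,[])],
  [(10,[1]),(4,[]),(10,[3]),(7,[]),(10,[0])],
  [(11,[0]),(5,[]),(15,[]),(9,[]),(11,[3])]]

def e8Trans4_1 : List (List (ℕ × List ℕ)) := [[(0,[]),(15,[]),(5,[]),(13,[]),(12,[3])],
  [(1,[]),(13,[2]),(13,[1]),(12,[]),(14,[])],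
  [(2,[]),(14,[2]),(14,[1]),(14,[3]),(13,[])],
  [(3,[]),(12,[]),(11,[]),(15,[2]),(15,[3])]]

def e8Trans4 : List (List (ℕ × List ℕ)) := [e8Trans4_0, e8Trans4_1].flatten

def e8Keys4_0 : List ℤ := [-1181744541122505474048,
  -1180590495915941298176,
  -1180590494818576105472,
  -1179438699212803407872,
  -1152921504604749824,
  -1151795604698955776,
  -1125898832052224,
  -1124801466859520,
  1073741824,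
  1098438934528,
  1152920405097316352,
  1154046305003110400]

def e8Keys4_1 : List ℤ := [1179437574412410290176,
  1180591619618974466048,
  1180591620716339658752,
  1181743416322112356352]

def e8Keys4 : List ℤ := [e8Keys4_0, e8Keys4_1].flatten

theorem e8_check4 : stepCheck e8R 8 4 e8Reps4 e8Trans4 e8Keys4 = true := by decide +kernel

theorem e8_len4 : e8Reps4.length = 16 := by decide +kernel

def e8Reps5_0 : List (List ℕ) := [[0,2,1,3,4,5],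
  [0,2,3,4,5,1,3,4,2,3,0,2,1,3,4,5],
  [3,0,2,1,3,4,5],
  [4,3,0,2,1,3,4,5],
  [5,4,3,0,2,1,3,4,5],
  [0,2,3,4,5],
  [1,3,4,2,3,0,2,1,3,4,5],
  [5,1,3,4,2,3,0,2,1,3,4,5],
  [4,5,1,3,4,2,3,0,2,1,3,4,5],
  [1,3,4,5],
  [2,3,0,2,1,3,4,5],
  [4,2,3,0,2,1,3,4,5]]

def e8Reps5_1 : List (List ℕ) := [[5,4,2,3,0,2,1,3,4,5],
  [],
  [5],
  [4,5],
  [3,4,5,1,3,4,2,3,0,2,1,3,4,5],
  [3,4,2,3,0,2,1,3,4,5],
  [5,3,4,2,3,0,2,1,3,4,5],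
  [4,5,3,4,2,3,0,2,1,3,4,5],
  [3,4,5],
  [2,1,3,4,5],
  [2,3,4,5,1,3,4,2,3,0,2,1,3,4,5],
  [3,2,1,3,4,5]]

def e8Reps5_2 : List (List ℕ) := [[4,3,2,1,3,4,5],
  [5,4,3,2,1,3,4,5],
  [2,3,4,5]]

def e8Reps5 : List (List ℕ) := [e8Reps5_0, e8Reps5_1, e8Reps5_2].flatten

def e8Trans5_0 : List (List (ℕ × List ℕ)) := [[(21,[]),(5,[]),(0,[0]),(2,[]),(0,[3]),(0,[4])],
  [(22,[]),(1,[4]),(1,[1]),(1,[3]),(1,[2]),(1,[0])],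
  [(23,[]),(2,[2]),(10,[]),(0,[]),(3,[]),(2,[4])],
  [(24,[]),(3,[2]),(11,[]),(3,[3]),(2,[]),(4,[])],
  [(25,[]),(4,[2]),(12,[]),(4,[3]),(4,[4]),(3,[])],
  [(26,[]),(0,[]),(5,[0]),(5,[2]),(5,[3]),(5,[4])],
  [(6,[1]),(17,[]),(6,[3]),(6,[2]),(6,[0]),(7,[])],
  [(7,[1]),(18,[]),(7,[3]),(7,[2]),(8,[]),(6,[])],
  [(8,[1]),(19,[]),(8,[3]),(16,[]),(7,[]),(8,[0])],
  [(9,[0]),(20,[]),(21,[]),(9,[1]),(9,[3]),(9,[4])],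
  [(10,[1]),(10,[2]),(2,[]),(10,[0]),(11,[]),(10,[4])],
  [(11,[1]),(11,[2]),(3,[]),(17,[]),(10,[]),(12,[])]]

def e8Trans5_1 : List (List (ℕ × List ℕ)) := [[(12,[1]),(12,[2]),(4,[]),(18,[]),(12,[4]),(11,[])],
  [(13,[0]),(13,[1]),(13,[2]),(13,[3]),(13,[4]),(14,[])],
  [(14,[0]),(14,[1]),(14,[2]),(14,[3]),(15,[]),(13,[])],
  [(15,[0]),(15,[1]),(15,[2]),(20,[]),(14,[]),(15,[4])],
  [(16,[1]),(16,[4]),(22,[]),(8,[]),(16,[2]),(16,[0])],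
  [(17,[1]),(6,[]),(17,[3]),(11,[]),(17,[0]),(18,[])],
  [(18,[1]),(7,[]),(18,[3]),(12,[]),(19,[]),(17,[])],
  [(19,[1]),(8,[]),(19,[3]),(19,[4]),(18,[]),(19,[0])],
  [(20,[0]),(9,[]),(26,[]),(15,[]),(20,[3]),(20,[4])],
  [(0,[]),(26,[]),(9,[]),(23,[]),(21,[3]),(21,[4])],
  [(1,[]),(22,[4]),(16,[]),(22,[3]),(22,[2]),(22,[0])],
  [(2,[]),(23,[2]),(23,[1]),(21,[]),(24,[]),(23,[4])]]

def e8Trans5_2 : List (List (ℕ × List ℕ)) := [[(3,[]),(24,[2]),(24,[1]),(24,[3]),(23,[]),(25,[])],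
  [(4,[]),(25,[2]),(25,[1]),(25,[3]),(25,[4]),(24,[])],
  [(5,[]),(21,[]),(20,[]),(26,[2]),(26,[3]),(26,[4])]]

def e8Trans5 : List (List (ℕ × List ℕ)) := [e8Trans5_0, e8Trans5_1, e8Trans5_2].flatten

def e8Keys5_0 : List ℤ := [-1181744541122506521600,
  -1180591620717411301376,
  -1180590495915942345728,
  -1180590494818577153024,
  -1180590494817505507328,
  -1179438699212804455424,
  -1152921504605797376,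
  -1152921503534151680,
  -1152920406168958976,
  -1151795604700003328,
  -1125898833099776,
  -1124801467907072]

def e8Keys5_1 : List ℤ := [-1124800396261376,
  1048576,
  1072694272,
  1098437886976,
  1124800395216896,
  1152920405096268800,
  1152920406167914496,
  1152921503533107200,
  1154046305002062848,
  1179437574412409242624,
  1180590494817504462848,
  1180591619618973418496]

def e8Keys5_2 : List ℤ := [1180591620716338611200,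
  1180591620717410256896,
  1181743416322111308800]

def e8Keys5 : List ℤ := [e8Keys5_0, e8Keys5_1, e8Keys5_2].flatten

theorem e8_check5 : stepCheck e8R 8 5 e8Reps5 e8Trans5 e8Keys5 = true := by decide +kernel

theorem e8_len5 : e8Reps5.length = 27 := by decide +kernel

def e8Reps6_0 : List (List ℕ) := [[0,2,1,3,4,5,6],
  [1,3,4,5,6,0,2,3,4,5,1,3,4,2,3,0,2,1,3,4,5,6],
  [0,2,3,4,5,1,3,4,2,3,0,2,1,3,4,5,6],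
  [6,0,2,3,4,5,1,3,4,2,3,0,2,1,3,4,5,6],
  [5,6,0,2,3,4,5,1,3,4,2,3,0,2,1,3,4,5,6],
  [4,5,6,0,2,3,4,5,1,3,4,2,3,0,2,1,3,4,5,6],
  [3,0,2,1,3,4,5,6],
  [4,3,0,2,1,3,4,5,6],
  [5,4,3,0,2,1,3,4,5,6],
  [6,5,4,3,0,2,1,3,4,5,6],
  [0,2,3,4,5,6],
  [3,4,5,6,0,2,3,4,5,1,3,4,2,3,0,2,1,3,4,5,6]]

def e8Reps6_1 : List (List ℕ) := [[2,1,3,4,5,6,0,2,3,4,5,1,3,4,2,3,0,2,1,3,4,5,6],
  [1,3,4,2,3,0,2,1,3,4,5,6],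
  [5,1,3,4,2,3,0,2,1,3,4,5,6],
  [6,5,1,3,4,2,3,0,2,1,3,4,5,6],
  [4,5,1,3,4,2,3,0,2,1,3,4,5,6],
  [6,4,5,1,3,4,2,3,0,2,1,3,4,5,6],
  [5,6,4,5,1,3,4,2,3,0,2,1,3,4,5,6],
  [1,3,4,5,6],
  [2,3,0,2,1,3,4,5,6],
  [4,2,3,0,2,1,3,4,5,6],
  [5,4,2,3,0,2,1,3,4,5,6],
  [6,5,4,2,3,0,2,1,3,4,5,6]]

def e8Reps6_2 : List (List ℕ) := [[3,2,1,3,4,5,6,0,2,3,4,5,1,3,4,2,3,0,2,1,3,4,5,6],
  [4,3,2,1,3,4,5,6,0,2,3,4,5,1,3,4,2,3,0,2,1,3,4,5,6],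
  [5,4,3,2,1,3,4,5,6,0,2,3,4,5,1,3,4,2,3,0,2,1,3,4,5,6],
  [6,5,4,3,2,1,3,4,5,6,0,2,3,4,5,1,3,4,2,3,0,2,1,3,4,5,6],
  [],
  [6],
  [5,6],
  [4,5,6],
  [3,4,5,1,3,4,2,3,0,2,1,3,4,5,6],
  [6,3,4,5,1,3,4,2,3,0,2,1,3,4,5,6],
  [5,6,3,4,5,1,3,4,2,3,0,2,1,3,4,5,6],
  [4,5,6,3,4,5,1,3,4,2,3,0,2,1,3,4,5,6]]

def e8Reps6_3 : List (List ℕ) := [[2,3,4,5,6,0,2,3,4,5,1,3,4,2,3,0,2,1,3,4,5,6],
  [3,4,2,3,0,2,1,3,4,5,6],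
  [5,3,4,2,3,0,2,1,3,4,5,6],
  [6,5,3,4,2,3,0,2,1,3,4,5,6],
  [4,5,3,4,2,3,0,2,1,3,4,5,6],
  [6,4,5,3,4,2,3,0,2,1,3,4,5,6],
  [5,6,4,5,3,4,2,3,0,2,1,3,4,5,6],
  [3,4,5,6],
  [2,1,3,4,5,6],
  [1,3,4,5,6,2,3,4,5,1,3,4,2,3,0,2,1,3,4,5,6],
  [2,3,4,5,1,3,4,2,3,0,2,1,3,4,5,6],
  [6,2,3,4,5,1,3,4,2,3,0,2,1,3,4,5,6]]

def e8Reps6_4 : List (List ℕ) := [[5,6,2,3,4,5,1,3,4,2,3,0,2,1,3,4,5,6],
  [4,5,6,2,3,4,5,1,3,4,2,3,0,2,1,3,4,5,6],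
  [3,2,1,3,4,5,6],
  [4,3,2,1,3,4,5,6],
  [5,4,3,2,1,3,4,5,6],
  [6,5,4,3,2,1,3,4,5,6],
  [2,3,4,5,6],
  [3,4,5,6,2,3,4,5,1,3,4,2,3,0,2,1,3,4,5,6]]

def e8Reps6 : List (List ℕ) := [e8Reps6_0, e8Reps6_1, e8Reps6_2, e8Reps6_3, e8Reps6_4].flatten

def e8Trans6_0 : List (List (ℕ × List ℕ)) := [[(44,[]),(10,[]),(0,[0]),(6,[]),(0,[3]),(0,[4]),(0,[5])],
  [(45,[]),(11,[]),(12,[]),(1,[4]),(1,[3]),(1,[2]),(1,[0])],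
  [(46,[]),(2,[4]),(2,[1]),(2,[3]),(2,[2]),(2,[0]),(3,[])],
  [(47,[]),(3,[4]),(3,[1]),(3,[3]),(3,[2]),(4,[]),(2,[])],
  [(48,[]),(4,[4]),(4,[1]),(4,[3]),(5,[]),(3,[]),(4,[0])],
  [(49,[]),(5,[4]),(5,[1]),(11,[]),(4,[]),(5,[2]),(5,[0])],
  [(50,[]),(6,[2]),(20,[]),(0,[]),(7,[]),(6,[4]),(6,[5])],
  [(51,[]),(7,[2]),(21,[]),(7,[3]),(6,[]),(8,[]),(7,[5])],
  [(52,[]),(8,[2]),(22,[]),(8,[3]),(8,[4]),(7,[]),(9,[])],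
  [(53,[]),(9,[2]),(23,[]),(9,[3]),(9,[4]),(9,[5]),(8,[])],
  [(54,[]),(0,[]),(10,[0]),(10,[2]),(10,[3]),(10,[4]),(10,[5])],
  [(55,[]),(1,[]),(36,[]),(5,[]),(11,[3]),(11,[2]),(11,[0])]]

def e8Trans6_1 : List (List (ℕ × List ℕ)) := [[(12,[5]),(36,[]),(1,[]),(24,[]),(12,[3]),(12,[2]),(12,[0])],
  [(13,[1]),(37,[]),(13,[3]),(13,[2]),(13,[0]),(14,[]),(13,[5])],
  [(14,[1]),(38,[]),(14,[3]),(14,[2]),(16,[]),(13,[]),(15,[])],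
  [(15,[1]),(39,[]),(15,[3]),(15,[2]),(17,[]),(15,[5]),(14,[])],
  [(16,[1]),(40,[]),(16,[3]),(32,[]),(14,[]),(16,[0]),(17,[])],
  [(17,[1]),(41,[]),(17,[3]),(33,[]),(15,[]),(18,[]),(16,[])],
  [(18,[1]),(42,[]),(18,[3]),(34,[]),(18,[5]),(17,[]),(18,[0])],
  [(19,[0]),(43,[]),(44,[]),(19,[1]),(19,[3]),(19,[4]),(19,[5])],
  [(20,[1]),(20,[2]),(6,[]),(20,[0]),(21,[]),(20,[4]),(20,[5])],
  [(21,[1]),(21,[2]),(7,[]),(37,[]),(20,[]),(22,[]),(21,[5])],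
  [(22,[1]),(22,[2]),(8,[]),(38,[]),(22,[4]),(21,[]),(23,[])],
  [(23,[1]),(23,[2]),(9,[]),(39,[]),(23,[4]),(23,[5]),(22,[])]]

def e8Trans6_2 : List (List (ℕ × List ℕ)) := [[(24,[5]),(24,[1]),(24,[4]),(12,[]),(25,[]),(24,[2]),(24,[0])],
  [(25,[5]),(25,[1]),(25,[4]),(25,[3]),(24,[]),(26,[]),(25,[0])],
  [(26,[5]),(26,[1]),(26,[4]),(26,[3]),(26,[2]),(25,[]),(27,[])],
  [(27,[5]),(27,[1]),(27,[4]),(27,[3]),(27,[2]),(27,[0]),(26,[])],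
  [(28,[0]),(28,[1]),(28,[2]),(28,[3]),(28,[4]),(28,[5]),(29,[])],
  [(29,[0]),(29,[1]),(29,[2]),(29,[3]),(29,[4]),(30,[]),(28,[])],
  [(30,[0]),(30,[1]),(30,[2]),(30,[3]),(31,[]),(29,[]),(30,[5])],
  [(31,[0]),(31,[1]),(31,[2]),(43,[]),(30,[]),(31,[4]),(31,[5])],
  [(32,[1]),(32,[4]),(46,[]),(16,[]),(32,[2]),(32,[0]),(33,[])],
  [(33,[1]),(33,[4]),(47,[]),(17,[]),(33,[2]),(34,[]),(32,[])],
  [(34,[1]),(34,[4]),(48,[]),(18,[]),(35,[]),(33,[]),(34,[0])],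
  [(35,[1]),(35,[4]),(49,[]),(35,[5]),(34,[]),(35,[2]),(35,[0])]]

def e8Trans6_3 : List (List (ℕ × List ℕ)) := [[(36,[5]),(12,[]),(11,[]),(36,[1]),(36,[3]),(36,[2]),(36,[0])],
  [(37,[1]),(13,[]),(37,[3]),(21,[]),(37,[0]),(38,[]),(37,[5])],
  [(38,[1]),(14,[]),(38,[3]),(22,[]),(40,[]),(37,[]),(39,[])],
  [(39,[1]),(15,[]),(39,[3]),(23,[]),(41,[]),(39,[5]),(38,[])],
  [(40,[1]),(16,[]),(40,[3]),(40,[4]),(38,[]),(40,[0]),(41,[])],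
  [(41,[1]),(17,[]),(41,[3]),(41,[4]),(39,[]),(42,[]),(40,[])],
  [(42,[1]),(18,[]),(42,[3]),(42,[4]),(42,[5]),(41,[]),(42,[0])],
  [(43,[0]),(19,[]),(54,[]),(31,[]),(43,[3]),(43,[4]),(43,[5])],
  [(0,[]),(54,[]),(19,[]),(50,[]),(44,[3]),(44,[4]),(44,[5])],
  [(1,[]),(55,[]),(45,[5]),(45,[4]),(45,[3]),(45,[2]),(45,[0])],
  [(2,[]),(46,[4]),(32,[]),(46,[3]),(46,[2]),(46,[0]),(47,[])],
  [(3,[]),(47,[4]),(33,[]),(47,[3]),(47,[2]),(48,[]),(46,[])]]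

def e8Trans6_4 : List (List (ℕ × List ℕ)) := [[(4,[]),(48,[4]),(34,[]),(48,[3]),(49,[]),(47,[]),(48,[0])],
  [(5,[]),(49,[4]),(35,[]),(55,[]),(48,[]),(49,[2]),(49,[0])],
  [(6,[]),(50,[2]),(50,[1]),(44,[]),(51,[]),(50,[4]),(50,[5])],
  [(7,[]),(51,[2]),(51,[1]),(51,[3]),(50,[]),(52,[]),(51,[5])],
  [(8,[]),(52,[2]),(52,[1]),(52,[3]),(52,[4]),(51,[]),(53,[])],
  [(9,[]),(53,[2]),(53,[1]),(53,[3]),(53,[4]),(53,[5]),(52,[])],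
  [(10,[]),(44,[]),(43,[]),(54,[2]),(54,[3]),(54,[4]),(54,[5])],
  [(11,[]),(45,[]),(55,[5]),(49,[]),(55,[3]),(55,[2]),(55,[0])]]

def e8Trans6 : List (List (ℕ × List ℕ)) := [e8Trans6_0, e8Trans6_1, e8Trans6_2, e8Trans6_3, e8Trans6_4].flatten

def e8Keys6_0 : List ℤ := [-1181744541122506522623,
  -1181743416322111307774,
  -1180591620717411302399,
  -1180591620717410255870,
  -1180591620716338610174,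
  -1180591619618973417470,
  -1180590495915942346751,
  -1180590494818577154047,
  -1180590494817505508351,
  -1180590494817504461822,
  -1179438699212804456447,
  -1179437574412409241598]

def e8Keys6_1 : List ℤ := [-1154046305002061822,
  -1152921504605798399,
  -1152921503534152703,
  -1152921503533106174,
  -1152920406168959999,
  -1152920406167913470,
  -1152920405096267774,
  -1151795604700004351,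
  -1125898833100799,
  -1124801467908095,
  -1124800396262399,
  -1124800395215870]

def e8Keys6_2 : List ℤ := [-1098437885950,
  -1072693246,
  -1047550,
  -1021,
  1024,
  1047553,
  1072693249,
  1098437885953,
  1124800395215873,
  1124800396262402,
  1124801467908098,
  1125898833100802]

def e8Keys6_3 : List ℤ := [1151795604700004354,
  1152920405096267777,
  1152920406167913473,
  1152920406168960002,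
  1152921503533106177,
  1152921503534152706,
  1152921504605798402,
  1154046305002061825,
  1179437574412409241601,
  1179438699212804456450,
  1180590494817504461825,
  1180590494817505508354]

def e8Keys6_4 : List ℤ := [1180590494818577154050,
  1180590495915942346754,
  1180591619618973417473,
  1180591620716338610177,
  1180591620717410255873,
  1180591620717411302402,
  1181743416322111307777,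
  1181744541122506522626]

def e8Keys6 : List ℤ := [e8Keys6_0, e8Keys6_1, e8Keys6_2, e8Keys6_3, e8Keys6_4].flatten

theorem e8_check6 : stepCheck e8R 8 6 e8Reps6 e8Trans6 e8Keys6 = true := by decide +kernel

theorem e8_len6 : e8Reps6.length = 56 := by decide +kernel

def e8Reps7_0 : List (List ℕ) := [[0,2,3,4,5,6,7,1,3,4,5,6,2,3,4,5,1,3,4,2,3,0,2,1,3,4,5,6,7],
  [0,2,1,3,4,5,6,7,2,1,3,4,5,6,0,2,3,4,5,1,3,4,2,3,0,2,1,3,4,5,6,7],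
  [0,2,1,3,4,5,6,7,3,2,1,3,4,5,6,0,2,3,4,5,1,3,4,2,3,0,2,1,3,4,5,6,7],
  [0,2,1,3,4,5,6,7,4,3,2,1,3,4,5,6,0,2,3,4,5,1,3,4,2,3,0,2,1,3,4,5,6,7],
  [0,2,1,3,4,5,6,7,5,4,3,2,1,3,4,5,6,0,2,3,4,5,1,3,4,2,3,0,2,1,3,4,5,6,7],
  [0,2,1,3,4,5,6,7,6,5,4,3,2,1,3,4,5,6,0,2,3,4,5,1,3,4,2,3,0,2,1,3,4,5,6,7],
  [0,2,1,3,4,5,6,7],
  [1,3,4,5,6,0,2,3,4,5,1,3,4,2,3,0,2,1,3,4,5,6,7,6,5,4,3,2,1,3,4,5,6,0,2,3,4,5,1,3,4,2,3,0,2,1,3,4,5,6,7],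
  [1,3,4,5,6,0,2,3,4,5,1,3,4,2,3,0,2,1,3,4,5,6,7],
  [7,1,3,4,5,6,0,2,3,4,5,1,3,4,2,3,0,2,1,3,4,5,6,7],
  [6,7,1,3,4,5,6,0,2,3,4,5,1,3,4,2,3,0,2,1,3,4,5,6,7],
  [5,6,7,1,3,4,5,6,0,2,3,4,5,1,3,4,2,3,0,2,1,3,4,5,6,7]]

def e8Reps7_1 : List (List ℕ) := [[4,5,6,7,1,3,4,5,6,0,2,3,4,5,1,3,4,2,3,0,2,1,3,4,5,6,7],
  [0,2,3,4,5,6,7,1,3,4,5,6,0,2,3,4,5,1,3,4,2,3,0,2,1,3,4,5,6,7],
  [0,2,3,4,5,1,3,4,2,3,0,2,1,3,4,5,6,7,5,4,3,2,1,3,4,5,6,0,2,3,4,5,1,3,4,2,3,0,2,1,3,4,5,6,7],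
  [0,2,3,4,5,1,3,4,2,3,0,2,1,3,4,5,6,7,6,5,4,3,2,1,3,4,5,6,0,2,3,4,5,1,3,4,2,3,0,2,1,3,4,5,6,7],
  [0,2,3,4,5,1,3,4,2,3,0,2,1,3,4,5,6,7],
  [6,0,2,3,4,5,1,3,4,2,3,0,2,1,3,4,5,6,7,6,5,4,3,2,1,3,4,5,6,0,2,3,4,5,1,3,4,2,3,0,2,1,3,4,5,6,7],
  [6,0,2,3,4,5,1,3,4,2,3,0,2,1,3,4,5,6,7],
  [7,6,0,2,3,4,5,1,3,4,2,3,0,2,1,3,4,5,6,7],
  [5,6,0,2,3,4,5,1,3,4,2,3,0,2,1,3,4,5,6,7,6,5,4,3,2,1,3,4,5,6,0,2,3,4,5,1,3,4,2,3,0,2,1,3,4,5,6,7],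
  [5,6,0,2,3,4,5,1,3,4,2,3,0,2,1,3,4,5,6,7],
  [7,5,6,0,2,3,4,5,1,3,4,2,3,0,2,1,3,4,5,6,7],
  [6,7,5,6,0,2,3,4,5,1,3,4,2,3,0,2,1,3,4,5,6,7]]

def e8Reps7_2 : List (List ℕ) := [[4,5,6,0,2,3,4,5,1,3,4,2,3,0,2,1,3,4,5,6,7,6,5,4,3,2,1,3,4,5,6,0,2,3,4,5,1,3,4,2,3,0,2,1,3,4,5,6,7],
  [4,5,6,0,2,3,4,5,1,3,4,2,3,0,2,1,3,4,5,6,7],
  [7,4,5,6,0,2,3,4,5,1,3,4,2,3,0,2,1,3,4,5,6,7],
  [6,7,4,5,6,0,2,3,4,5,1,3,4,2,3,0,2,1,3,4,5,6,7],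
  [5,6,7,4,5,6,0,2,3,4,5,1,3,4,2,3,0,2,1,3,4,5,6,7],
  [3,0,2,1,3,4,5,6,7,3,2,1,3,4,5,6,0,2,3,4,5,1,3,4,2,3,0,2,1,3,4,5,6,7],
  [3,0,2,1,3,4,5,6,7,4,3,2,1,3,4,5,6,0,2,3,4,5,1,3,4,2,3,0,2,1,3,4,5,6,7],
  [3,0,2,1,3,4,5,6,7,5,4,3,2,1,3,4,5,6,0,2,3,4,5,1,3,4,2,3,0,2,1,3,4,5,6,7],
  [3,0,2,1,3,4,5,6,7,6,5,4,3,2,1,3,4,5,6,0,2,3,4,5,1,3,4,2,3,0,2,1,3,4,5,6,7],
  [3,0,2,1,3,4,5,6,7],
  [4,3,0,2,1,3,4,5,6,7,4,3,2,1,3,4,5,6,0,2,3,4,5,1,3,4,2,3,0,2,1,3,4,5,6,7],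
  [4,3,0,2,1,3,4,5,6,7,5,4,3,2,1,3,4,5,6,0,2,3,4,5,1,3,4,2,3,0,2,1,3,4,5,6,7]]

def e8Reps7_3 : List (List ℕ) := [[4,3,0,2,1,3,4,5,6,7,6,5,4,3,2,1,3,4,5,6,0,2,3,4,5,1,3,4,2,3,0,2,1,3,4,5,6,7],
  [4,3,0,2,1,3,4,5,6,7],
  [5,4,3,0,2,1,3,4,5,6,7,5,4,3,2,1,3,4,5,6,0,2,3,4,5,1,3,4,2,3,0,2,1,3,4,5,6,7],
  [5,4,3,0,2,1,3,4,5,6,7,6,5,4,3,2,1,3,4,5,6,0,2,3,4,5,1,3,4,2,3,0,2,1,3,4,5,6,7],
  [5,4,3,0,2,1,3,4,5,6,7],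
  [6,5,4,3,0,2,1,3,4,5,6,7,6,5,4,3,2,1,3,4,5,6,0,2,3,4,5,1,3,4,2,3,0,2,1,3,4,5,6,7],
  [6,5,4,3,0,2,1,3,4,5,6,7],
  [7,6,5,4,3,0,2,1,3,4,5,6,7],
  [3,4,5,6,7,1,3,4,5,6,0,2,3,4,5,1,3,4,2,3,0,2,1,3,4,5,6,7],
  [0,2,3,4,5,6,7,2,1,3,4,5,6,0,2,3,4,5,1,3,4,2,3,0,2,1,3,4,5,6,7],
  [0,2,3,4,5,6,7,3,2,1,3,4,5,6,0,2,3,4,5,1,3,4,2,3,0,2,1,3,4,5,6,7],
  [0,2,3,4,5,6,7,4,3,2,1,3,4,5,6,0,2,3,4,5,1,3,4,2,3,0,2,1,3,4,5,6,7]]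

def e8Reps7_4 : List (List ℕ) := [[0,2,3,4,5,6,7,5,4,3,2,1,3,4,5,6,0,2,3,4,5,1,3,4,2,3,0,2,1,3,4,5,6,7],
  [0,2,3,4,5,6,7,6,5,4,3,2,1,3,4,5,6,0,2,3,4,5,1,3,4,2,3,0,2,1,3,4,5,6,7],
  [0,2,3,4,5,6,7],
  [3,4,5,6,0,2,3,4,5,1,3,4,2,3,0,2,1,3,4,5,6,7,6,5,4,3,2,1,3,4,5,6,0,2,3,4,5,1,3,4,2,3,0,2,1,3,4,5,6,7],
  [3,4,5,6,0,2,3,4,5,1,3,4,2,3,0,2,1,3,4,5,6,7],
  [7,3,4,5,6,0,2,3,4,5,1,3,4,2,3,0,2,1,3,4,5,6,7],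
  [6,7,3,4,5,6,0,2,3,4,5,1,3,4,2,3,0,2,1,3,4,5,6,7],
  [5,6,7,3,4,5,6,0,2,3,4,5,1,3,4,2,3,0,2,1,3,4,5,6,7],
  [4,5,6,7,3,4,5,6,0,2,3,4,5,1,3,4,2,3,0,2,1,3,4,5,6,7],
  [1,3,4,5,6,7,2,3,4,5,6,0,2,3,4,5,1,3,4,2,3,0,2,1,3,4,5,6,7],
  [2,1,3,4,5,6,0,2,3,4,5,1,3,4,2,3,0,2,1,3,4,5,6,7,6,5,4,3,2,1,3,4,5,6,0,2,3,4,5,1,3,4,2,3,0,2,1,3,4,5,6,7],
  [2,1,3,4,5,6,0,2,3,4,5,1,3,4,2,3,0,2,1,3,4,5,6,7]]

def e8Reps7_5 : List (List ℕ) := [[7,2,1,3,4,5,6,0,2,3,4,5,1,3,4,2,3,0,2,1,3,4,5,6,7],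
  [6,7,2,1,3,4,5,6,0,2,3,4,5,1,3,4,2,3,0,2,1,3,4,5,6,7],
  [5,6,7,2,1,3,4,5,6,0,2,3,4,5,1,3,4,2,3,0,2,1,3,4,5,6,7],
  [4,5,6,7,2,1,3,4,5,6,0,2,3,4,5,1,3,4,2,3,0,2,1,3,4,5,6,7],
  [1,3,4,2,3,0,2,1,3,4,5,6,7,4,3,2,1,3,4,5,6,0,2,3,4,5,1,3,4,2,3,0,2,1,3,4,5,6,7],
  [1,3,4,2,3,0,2,1,3,4,5,6,7,5,4,3,2,1,3,4,5,6,0,2,3,4,5,1,3,4,2,3,0,2,1,3,4,5,6,7],
  [1,3,4,2,3,0,2,1,3,4,5,6,7,6,5,4,3,2,1,3,4,5,6,0,2,3,4,5,1,3,4,2,3,0,2,1,3,4,5,6,7],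
  [1,3,4,2,3,0,2,1,3,4,5,6,7],
  [5,1,3,4,2,3,0,2,1,3,4,5,6,7,5,4,3,2,1,3,4,5,6,0,2,3,4,5,1,3,4,2,3,0,2,1,3,4,5,6,7],
  [5,1,3,4,2,3,0,2,1,3,4,5,6,7,6,5,4,3,2,1,3,4,5,6,0,2,3,4,5,1,3,4,2,3,0,2,1,3,4,5,6,7],
  [5,1,3,4,2,3,0,2,1,3,4,5,6,7],
  [6,5,1,3,4,2,3,0,2,1,3,4,5,6,7,6,5,4,3,2,1,3,4,5,6,0,2,3,4,5,1,3,4,2,3,0,2,1,3,4,5,6,7]]

def e8Reps7_6 : List (List ℕ) := [[6,5,1,3,4,2,3,0,2,1,3,4,5,6,7],
  [7,6,5,1,3,4,2,3,0,2,1,3,4,5,6,7],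
  [4,5,1,3,4,2,3,0,2,1,3,4,5,6,7,5,4,3,2,1,3,4,5,6,0,2,3,4,5,1,3,4,2,3,0,2,1,3,4,5,6,7],
  [4,5,1,3,4,2,3,0,2,1,3,4,5,6,7,6,5,4,3,2,1,3,4,5,6,0,2,3,4,5,1,3,4,2,3,0,2,1,3,4,5,6,7],
  [4,5,1,3,4,2,3,0,2,1,3,4,5,6,7],
  [6,4,5,1,3,4,2,3,0,2,1,3,4,5,6,7,6,5,4,3,2,1,3,4,5,6,0,2,3,4,5,1,3,4,2,3,0,2,1,3,4,5,6,7],
  [6,4,5,1,3,4,2,3,0,2,1,3,4,5,6,7],
  [7,6,4,5,1,3,4,2,3,0,2,1,3,4,5,6,7],
  [5,6,4,5,1,3,4,2,3,0,2,1,3,4,5,6,7,6,5,4,3,2,1,3,4,5,6,0,2,3,4,5,1,3,4,2,3,0,2,1,3,4,5,6,7],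
  [5,6,4,5,1,3,4,2,3,0,2,1,3,4,5,6,7],
  [7,5,6,4,5,1,3,4,2,3,0,2,1,3,4,5,6,7],
  [6,7,5,6,4,5,1,3,4,2,3,0,2,1,3,4,5,6,7]]

def e8Reps7_7 : List (List ℕ) := [[1,3,4,5,6,7,2,1,3,4,5,6,0,2,3,4,5,1,3,4,2,3,0,2,1,3,4,5,6,7],
  [1,3,4,5,6,7,3,2,1,3,4,5,6,0,2,3,4,5,1,3,4,2,3,0,2,1,3,4,5,6,7],
  [1,3,4,5,6,7,4,3,2,1,3,4,5,6,0,2,3,4,5,1,3,4,2,3,0,2,1,3,4,5,6,7],
  [1,3,4,5,6,7,5,4,3,2,1,3,4,5,6,0,2,3,4,5,1,3,4,2,3,0,2,1,3,4,5,6,7],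
  [1,3,4,5,6,7,6,5,4,3,2,1,3,4,5,6,0,2,3,4,5,1,3,4,2,3,0,2,1,3,4,5,6,7],
  [1,3,4,5,6,7],
  [2,3,0,2,1,3,4,5,6,7,3,2,1,3,4,5,6,0,2,3,4,5,1,3,4,2,3,0,2,1,3,4,5,6,7],
  [2,3,0,2,1,3,4,5,6,7,4,3,2,1,3,4,5,6,0,2,3,4,5,1,3,4,2,3,0,2,1,3,4,5,6,7],
  [2,3,0,2,1,3,4,5,6,7,5,4,3,2,1,3,4,5,6,0,2,3,4,5,1,3,4,2,3,0,2,1,3,4,5,6,7],
  [2,3,0,2,1,3,4,5,6,7,6,5,4,3,2,1,3,4,5,6,0,2,3,4,5,1,3,4,2,3,0,2,1,3,4,5,6,7],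
  [2,3,0,2,1,3,4,5,6,7],
  [4,2,3,0,2,1,3,4,5,6,7,4,3,2,1,3,4,5,6,0,2,3,4,5,1,3,4,2,3,0,2,1,3,4,5,6,7]]

def e8Reps7_8 : List (List ℕ) := [[4,2,3,0,2,1,3,4,5,6,7,5,4,3,2,1,3,4,5,6,0,2,3,4,5,1,3,4,2,3,0,2,1,3,4,5,6,7],
  [4,2,3,0,2,1,3,4,5,6,7,6,5,4,3,2,1,3,4,5,6,0,2,3,4,5,1,3,4,2,3,0,2,1,3,4,5,6,7],
  [4,2,3,0,2,1,3,4,5,6,7],
  [5,4,2,3,0,2,1,3,4,5,6,7,5,4,3,2,1,3,4,5,6,0,2,3,4,5,1,3,4,2,3,0,2,1,3,4,5,6,7],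
  [5,4,2,3,0,2,1,3,4,5,6,7,6,5,4,3,2,1,3,4,5,6,0,2,3,4,5,1,3,4,2,3,0,2,1,3,4,5,6,7],
  [5,4,2,3,0,2,1,3,4,5,6,7],
  [6,5,4,2,3,0,2,1,3,4,5,6,7,6,5,4,3,2,1,3,4,5,6,0,2,3,4,5,1,3,4,2,3,0,2,1,3,4,5,6,7],
  [6,5,4,2,3,0,2,1,3,4,5,6,7],
  [7,6,5,4,2,3,0,2,1,3,4,5,6,7],
  [3,2,1,3,4,5,6,0,2,3,4,5,1,3,4,2,3,0,2,1,3,4,5,6,7,6,5,4,3,2,1,3,4,5,6,0,2,3,4,5,1,3,4,2,3,0,2,1,3,4,5,6,7],
  [3,2,1,3,4,5,6,0,2,3,4,5,1,3,4,2,3,0,2,1,3,4,5,6,7],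
  [7,3,2,1,3,4,5,6,0,2,3,4,5,1,3,4,2,3,0,2,1,3,4,5,6,7]]

def e8Reps7_9 : List (List ℕ) := [[6,7,3,2,1,3,4,5,6,0,2,3,4,5,1,3,4,2,3,0,2,1,3,4,5,6,7],
  [5,6,7,3,2,1,3,4,5,6,0,2,3,4,5,1,3,4,2,3,0,2,1,3,4,5,6,7],
  [4,3,2,1,3,4,5,6,0,2,3,4,5,1,3,4,2,3,0,2,1,3,4,5,6,7,6,5,4,3,2,1,3,4,5,6,0,2,3,4,5,1,3,4,2,3,0,2,1,3,4,5,6,7],
  [4,3,2,1,3,4,5,6,0,2,3,4,5,1,3,4,2,3,0,2,1,3,4,5,6,7],
  [7,4,3,2,1,3,4,5,6,0,2,3,4,5,1,3,4,2,3,0,2,1,3,4,5,6,7],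
  [6,7,4,3,2,1,3,4,5,6,0,2,3,4,5,1,3,4,2,3,0,2,1,3,4,5,6,7],
  [5,4,3,2,1,3,4,5,6,0,2,3,4,5,1,3,4,2,3,0,2,1,3,4,5,6,7,6,5,4,3,2,1,3,4,5,6,0,2,3,4,5,1,3,4,2,3,0,2,1,3,4,5,6,7],
  [5,4,3,2,1,3,4,5,6,0,2,3,4,5,1,3,4,2,3,0,2,1,3,4,5,6,7],
  [7,5,4,3,2,1,3,4,5,6,0,2,3,4,5,1,3,4,2,3,0,2,1,3,4,5,6,7],
  [6,5,4,3,2,1,3,4,5,6,0,2,3,4,5,1,3,4,2,3,0,2,1,3,4,5,6,7,6,5,4,3,2,1,3,4,5,6,0,2,3,4,5,1,3,4,2,3,0,2,1,3,4,5,6,7],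
  [6,5,4,3,2,1,3,4,5,6,0,2,3,4,5,1,3,4,2,3,0,2,1,3,4,5,6,7],
  [7,6,5,4,3,2,1,3,4,5,6,0,2,3,4,5,1,3,4,2,3,0,2,1,3,4,5,6,7,6,5,4,3,2,1,3,4,5,6,0,2,3,4,5,1,3,4,2,3,0,2,1,3,4,5,6,7]]

def e8Reps7_10 : List (List ℕ) := [[],
  [7,6,5,4,3,2,1,3,4,5,6,0,2,3,4,5,1,3,4,2,3,0,2,1,3,4,5,6,7],
  [7],
  [6,7,5,4,3,2,1,3,4,5,6,0,2,3,4,5,1,3,4,2,3,0,2,1,3,4,5,6,7],
  [6,7,6,5,4,3,2,1,3,4,5,6,0,2,3,4,5,1,3,4,2,3,0,2,1,3,4,5,6,7],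
  [6,7],
  [5,6,7,4,3,2,1,3,4,5,6,0,2,3,4,5,1,3,4,2,3,0,2,1,3,4,5,6,7],
  [5,6,7,5,4,3,2,1,3,4,5,6,0,2,3,4,5,1,3,4,2,3,0,2,1,3,4,5,6,7],
  [5,6,7,6,5,4,3,2,1,3,4,5,6,0,2,3,4,5,1,3,4,2,3,0,2,1,3,4,5,6,7],
  [5,6,7],
  [4,5,6,7,3,2,1,3,4,5,6,0,2,3,4,5,1,3,4,2,3,0,2,1,3,4,5,6,7],
  [4,5,6,7,4,3,2,1,3,4,5,6,0,2,3,4,5,1,3,4,2,3,0,2,1,3,4,5,6,7]]

def e8Reps7_11 : List (List ℕ) := [[4,5,6,7,5,4,3,2,1,3,4,5,6,0,2,3,4,5,1,3,4,2,3,0,2,1,3,4,5,6,7],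
  [4,5,6,7,6,5,4,3,2,1,3,4,5,6,0,2,3,4,5,1,3,4,2,3,0,2,1,3,4,5,6,7],
  [4,5,6,7],
  [3,4,5,1,3,4,2,3,0,2,1,3,4,5,6,7,5,4,3,2,1,3,4,5,6,0,2,3,4,5,1,3,4,2,3,0,2,1,3,4,5,6,7],
  [3,4,5,1,3,4,2,3,0,2,1,3,4,5,6,7,6,5,4,3,2,1,3,4,5,6,0,2,3,4,5,1,3,4,2,3,0,2,1,3,4,5,6,7],
  [3,4,5,1,3,4,2,3,0,2,1,3,4,5,6,7],
  [6,3,4,5,1,3,4,2,3,0,2,1,3,4,5,6,7,6,5,4,3,2,1,3,4,5,6,0,2,3,4,5,1,3,4,2,3,0,2,1,3,4,5,6,7],
  [6,3,4,5,1,3,4,2,3,0,2,1,3,4,5,6,7],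
  [7,6,3,4,5,1,3,4,2,3,0,2,1,3,4,5,6,7],
  [5,6,3,4,5,1,3,4,2,3,0,2,1,3,4,5,6,7,6,5,4,3,2,1,3,4,5,6,0,2,3,4,5,1,3,4,2,3,0,2,1,3,4,5,6,7],
  [5,6,3,4,5,1,3,4,2,3,0,2,1,3,4,5,6,7],
  [7,5,6,3,4,5,1,3,4,2,3,0,2,1,3,4,5,6,7]]

def e8Reps7_12 : List (List ℕ) := [[6,7,5,6,3,4,5,1,3,4,2,3,0,2,1,3,4,5,6,7],
  [4,5,6,3,4,5,1,3,4,2,3,0,2,1,3,4,5,6,7,6,5,4,3,2,1,3,4,5,6,0,2,3,4,5,1,3,4,2,3,0,2,1,3,4,5,6,7],
  [4,5,6,3,4,5,1,3,4,2,3,0,2,1,3,4,5,6,7],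
  [7,4,5,6,3,4,5,1,3,4,2,3,0,2,1,3,4,5,6,7],
  [6,7,4,5,6,3,4,5,1,3,4,2,3,0,2,1,3,4,5,6,7],
  [5,6,7,4,5,6,3,4,5,1,3,4,2,3,0,2,1,3,4,5,6,7],
  [2,3,4,5,6,0,2,3,4,5,1,3,4,2,3,0,2,1,3,4,5,6,7,6,5,4,3,2,1,3,4,5,6,0,2,3,4,5,1,3,4,2,3,0,2,1,3,4,5,6,7],
  [2,3,4,5,6,0,2,3,4,5,1,3,4,2,3,0,2,1,3,4,5,6,7],
  [7,2,3,4,5,6,0,2,3,4,5,1,3,4,2,3,0,2,1,3,4,5,6,7],
  [6,7,2,3,4,5,6,0,2,3,4,5,1,3,4,2,3,0,2,1,3,4,5,6,7],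
  [5,6,7,2,3,4,5,6,0,2,3,4,5,1,3,4,2,3,0,2,1,3,4,5,6,7],
  [4,5,6,7,2,3,4,5,6,0,2,3,4,5,1,3,4,2,3,0,2,1,3,4,5,6,7]]

def e8Reps7_13 : List (List ℕ) := [[3,4,2,3,0,2,1,3,4,5,6,7,4,3,2,1,3,4,5,6,0,2,3,4,5,1,3,4,2,3,0,2,1,3,4,5,6,7],
  [3,4,2,3,0,2,1,3,4,5,6,7,5,4,3,2,1,3,4,5,6,0,2,3,4,5,1,3,4,2,3,0,2,1,3,4,5,6,7],
  [3,4,2,3,0,2,1,3,4,5,6,7,6,5,4,3,2,1,3,4,5,6,0,2,3,4,5,1,3,4,2,3,0,2,1,3,4,5,6,7],
  [3,4,2,3,0,2,1,3,4,5,6,7],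
  [5,3,4,2,3,0,2,1,3,4,5,6,7,5,4,3,2,1,3,4,5,6,0,2,3,4,5,1,3,4,2,3,0,2,1,3,4,5,6,7],
  [5,3,4,2,3,0,2,1,3,4,5,6,7,6,5,4,3,2,1,3,4,5,6,0,2,3,4,5,1,3,4,2,3,0,2,1,3,4,5,6,7],
  [5,3,4,2,3,0,2,1,3,4,5,6,7],
  [6,5,3,4,2,3,0,2,1,3,4,5,6,7,6,5,4,3,2,1,3,4,5,6,0,2,3,4,5,1,3,4,2,3,0,2,1,3,4,5,6,7],
  [6,5,3,4,2,3,0,2,1,3,4,5,6,7],
  [7,6,5,3,4,2,3,0,2,1,3,4,5,6,7],
  [4,5,3,4,2,3,0,2,1,3,4,5,6,7,5,4,3,2,1,3,4,5,6,0,2,3,4,5,1,3,4,2,3,0,2,1,3,4,5,6,7],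
  [4,5,3,4,2,3,0,2,1,3,4,5,6,7,6,5,4,3,2,1,3,4,5,6,0,2,3,4,5,1,3,4,2,3,0,2,1,3,4,5,6,7]]

def e8Reps7_14 : List (List ℕ) := [[4,5,3,4,2,3,0,2,1,3,4,5,6,7],
  [6,4,5,3,4,2,3,0,2,1,3,4,5,6,7,6,5,4,3,2,1,3,4,5,6,0,2,3,4,5,1,3,4,2,3,0,2,1,3,4,5,6,7],
  [6,4,5,3,4,2,3,0,2,1,3,4,5,6,7],
  [7,6,4,5,3,4,2,3,0,2,1,3,4,5,6,7],
  [5,6,4,5,3,4,2,3,0,2,1,3,4,5,6,7,6,5,4,3,2,1,3,4,5,6,0,2,3,4,5,1,3,4,2,3,0,2,1,3,4,5,6,7],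
  [5,6,4,5,3,4,2,3,0,2,1,3,4,5,6,7],
  [7,5,6,4,5,3,4,2,3,0,2,1,3,4,5,6,7],
  [6,7,5,6,4,5,3,4,2,3,0,2,1,3,4,5,6,7],
  [3,4,5,6,7,2,1,3,4,5,6,0,2,3,4,5,1,3,4,2,3,0,2,1,3,4,5,6,7],
  [3,4,5,6,7,3,2,1,3,4,5,6,0,2,3,4,5,1,3,4,2,3,0,2,1,3,4,5,6,7],
  [3,4,5,6,7,4,3,2,1,3,4,5,6,0,2,3,4,5,1,3,4,2,3,0,2,1,3,4,5,6,7],
  [3,4,5,6,7,5,4,3,2,1,3,4,5,6,0,2,3,4,5,1,3,4,2,3,0,2,1,3,4,5,6,7]]

def e8Reps7_15 : List (List ℕ) := [[3,4,5,6,7,6,5,4,3,2,1,3,4,5,6,0,2,3,4,5,1,3,4,2,3,0,2,1,3,4,5,6,7],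
  [3,4,5,6,7],
  [3,4,5,6,7,2,3,4,5,6,0,2,3,4,5,1,3,4,2,3,0,2,1,3,4,5,6,7],
  [2,1,3,4,5,6,7,2,1,3,4,5,6,0,2,3,4,5,1,3,4,2,3,0,2,1,3,4,5,6,7],
  [2,1,3,4,5,6,7,3,2,1,3,4,5,6,0,2,3,4,5,1,3,4,2,3,0,2,1,3,4,5,6,7],
  [2,1,3,4,5,6,7,4,3,2,1,3,4,5,6,0,2,3,4,5,1,3,4,2,3,0,2,1,3,4,5,6,7],
  [2,1,3,4,5,6,7,5,4,3,2,1,3,4,5,6,0,2,3,4,5,1,3,4,2,3,0,2,1,3,4,5,6,7],
  [2,1,3,4,5,6,7,6,5,4,3,2,1,3,4,5,6,0,2,3,4,5,1,3,4,2,3,0,2,1,3,4,5,6,7],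
  [2,1,3,4,5,6,7],
  [1,3,4,5,6,2,3,4,5,1,3,4,2,3,0,2,1,3,4,5,6,7,6,5,4,3,2,1,3,4,5,6,0,2,3,4,5,1,3,4,2,3,0,2,1,3,4,5,6,7],
  [1,3,4,5,6,2,3,4,5,1,3,4,2,3,0,2,1,3,4,5,6,7],
  [7,1,3,4,5,6,2,3,4,5,1,3,4,2,3,0,2,1,3,4,5,6,7]]

def e8Reps7_16 : List (List ℕ) := [[6,7,1,3,4,5,6,2,3,4,5,1,3,4,2,3,0,2,1,3,4,5,6,7],
  [5,6,7,1,3,4,5,6,2,3,4,5,1,3,4,2,3,0,2,1,3,4,5,6,7],
  [4,5,6,7,1,3,4,5,6,2,3,4,5,1,3,4,2,3,0,2,1,3,4,5,6,7],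
  [2,3,4,5,6,7,1,3,4,5,6,0,2,3,4,5,1,3,4,2,3,0,2,1,3,4,5,6,7],
  [2,3,4,5,1,3,4,2,3,0,2,1,3,4,5,6,7,5,4,3,2,1,3,4,5,6,0,2,3,4,5,1,3,4,2,3,0,2,1,3,4,5,6,7],
  [2,3,4,5,1,3,4,2,3,0,2,1,3,4,5,6,7,6,5,4,3,2,1,3,4,5,6,0,2,3,4,5,1,3,4,2,3,0,2,1,3,4,5,6,7],
  [2,3,4,5,1,3,4,2,3,0,2,1,3,4,5,6,7],
  [6,2,3,4,5,1,3,4,2,3,0,2,1,3,4,5,6,7,6,5,4,3,2,1,3,4,5,6,0,2,3,4,5,1,3,4,2,3,0,2,1,3,4,5,6,7],
  [6,2,3,4,5,1,3,4,2,3,0,2,1,3,4,5,6,7],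
  [7,6,2,3,4,5,1,3,4,2,3,0,2,1,3,4,5,6,7],
  [5,6,2,3,4,5,1,3,4,2,3,0,2,1,3,4,5,6,7,6,5,4,3,2,1,3,4,5,6,0,2,3,4,5,1,3,4,2,3,0,2,1,3,4,5,6,7],
  [5,6,2,3,4,5,1,3,4,2,3,0,2,1,3,4,5,6,7]]

def e8Reps7_17 : List (List ℕ) := [[7,5,6,2,3,4,5,1,3,4,2,3,0,2,1,3,4,5,6,7],
  [6,7,5,6,2,3,4,5,1,3,4,2,3,0,2,1,3,4,5,6,7],
  [4,5,6,2,3,4,5,1,3,4,2,3,0,2,1,3,4,5,6,7,6,5,4,3,2,1,3,4,5,6,0,2,3,4,5,1,3,4,2,3,0,2,1,3,4,5,6,7],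
  [4,5,6,2,3,4,5,1,3,4,2,3,0,2,1,3,4,5,6,7],
  [7,4,5,6,2,3,4,5,1,3,4,2,3,0,2,1,3,4,5,6,7],
  [6,7,4,5,6,2,3,4,5,1,3,4,2,3,0,2,1,3,4,5,6,7],
  [5,6,7,4,5,6,2,3,4,5,1,3,4,2,3,0,2,1,3,4,5,6,7],
  [3,2,1,3,4,5,6,7,3,2,1,3,4,5,6,0,2,3,4,5,1,3,4,2,3,0,2,1,3,4,5,6,7],
  [3,2,1,3,4,5,6,7,4,3,2,1,3,4,5,6,0,2,3,4,5,1,3,4,2,3,0,2,1,3,4,5,6,7],
  [3,2,1,3,4,5,6,7,5,4,3,2,1,3,4,5,6,0,2,3,4,5,1,3,4,2,3,0,2,1,3,4,5,6,7],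
  [3,2,1,3,4,5,6,7,6,5,4,3,2,1,3,4,5,6,0,2,3,4,5,1,3,4,2,3,0,2,1,3,4,5,6,7],
  [3,2,1,3,4,5,6,7]]

def e8Reps7_18 : List (List ℕ) := [[4,3,2,1,3,4,5,6,7,4,3,2,1,3,4,5,6,0,2,3,4,5,1,3,4,2,3,0,2,1,3,4,5,6,7],
  [4,3,2,1,3,4,5,6,7,5,4,3,2,1,3,4,5,6,0,2,3,4,5,1,3,4,2,3,0,2,1,3,4,5,6,7],
  [4,3,2,1,3,4,5,6,7,6,5,4,3,2,1,3,4,5,6,0,2,3,4,5,1,3,4,2,3,0,2,1,3,4,5,6,7],
  [4,3,2,1,3,4,5,6,7],
  [5,4,3,2,1,3,4,5,6,7,5,4,3,2,1,3,4,5,6,0,2,3,4,5,1,3,4,2,3,0,2,1,3,4,5,6,7],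
  [5,4,3,2,1,3,4,5,6,7,6,5,4,3,2,1,3,4,5,6,0,2,3,4,5,1,3,4,2,3,0,2,1,3,4,5,6,7],
  [5,4,3,2,1,3,4,5,6,7],
  [6,5,4,3,2,1,3,4,5,6,7,6,5,4,3,2,1,3,4,5,6,0,2,3,4,5,1,3,4,2,3,0,2,1,3,4,5,6,7],
  [6,5,4,3,2,1,3,4,5,6,7],
  [7,6,5,4,3,2,1,3,4,5,6,7],
  [3,4,5,6,7,1,3,4,5,6,2,3,4,5,1,3,4,2,3,0,2,1,3,4,5,6,7],
  [2,3,4,5,6,7,2,1,3,4,5,6,0,2,3,4,5,1,3,4,2,3,0,2,1,3,4,5,6,7]]

def e8Reps7_19 : List (List ℕ) := [[2,3,4,5,6,7,3,2,1,3,4,5,6,0,2,3,4,5,1,3,4,2,3,0,2,1,3,4,5,6,7],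
  [2,3,4,5,6,7,4,3,2,1,3,4,5,6,0,2,3,4,5,1,3,4,2,3,0,2,1,3,4,5,6,7],
  [2,3,4,5,6,7,5,4,3,2,1,3,4,5,6,0,2,3,4,5,1,3,4,2,3,0,2,1,3,4,5,6,7],
  [2,3,4,5,6,7,6,5,4,3,2,1,3,4,5,6,0,2,3,4,5,1,3,4,2,3,0,2,1,3,4,5,6,7],
  [2,3,4,5,6,7],
  [3,4,5,6,2,3,4,5,1,3,4,2,3,0,2,1,3,4,5,6,7,6,5,4,3,2,1,3,4,5,6,0,2,3,4,5,1,3,4,2,3,0,2,1,3,4,5,6,7],
  [3,4,5,6,2,3,4,5,1,3,4,2,3,0,2,1,3,4,5,6,7],
  [7,3,4,5,6,2,3,4,5,1,3,4,2,3,0,2,1,3,4,5,6,7],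
  [6,7,3,4,5,6,2,3,4,5,1,3,4,2,3,0,2,1,3,4,5,6,7],
  [5,6,7,3,4,5,6,2,3,4,5,1,3,4,2,3,0,2,1,3,4,5,6,7],
  [4,5,6,7,3,4,5,6,2,3,4,5,1,3,4,2,3,0,2,1,3,4,5,6,7],
  [2,3,4,5,6,7,1,3,4,5,6,2,3,4,5,1,3,4,2,3,0,2,1,3,4,5,6,7]]

def e8Reps7 : List (List ℕ) := [e8Reps7_0, e8Reps7_1, e8Reps7_2, e8Reps7_3, e8Reps7_4, e8Reps7_5, e8Reps7_6, e8Reps7_7, e8Reps7_8, e8Reps7_9, e8Reps7_10, e8Reps7_11, e8Reps7_12, e8Reps7_13, e8Reps7_14, e8Reps7_15, e8Reps7_16, e8Reps7_17, e8Reps7_18, e8Reps7_19].flatten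

def e8Trans7_0 : List (List (ℕ × List ℕ)) := [[(239,[]),(0,[6]),(13,[]),(0,[5]),(0,[4]),(0,[3]),(0,[2]),(0,[0])],
  [(183,[]),(45,[]),(1,[5]),(1,[6]),(2,[]),(1,[3]),(1,[2]),(1,[0])],
  [(184,[]),(46,[]),(2,[5]),(29,[]),(1,[]),(3,[]),(2,[2]),(2,[0])],
  [(185,[]),(47,[]),(3,[5]),(30,[]),(3,[3]),(2,[]),(4,[]),(3,[0])],
  [(186,[]),(48,[]),(4,[5]),(31,[]),(4,[3]),(4,[2]),(3,[]),(5,[])],
  [(187,[]),(49,[]),(5,[5]),(32,[]),(5,[3]),(5,[2]),(5,[0]),(4,[])],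
  [(188,[]),(50,[]),(6,[0]),(33,[]),(6,[3]),(6,[4]),(6,[5]),(6,[6])],
  [(189,[]),(51,[]),(58,[]),(7,[2]),(7,[3]),(7,[4]),(7,[5]),(7,[6])],
  [(190,[]),(52,[]),(59,[]),(8,[4]),(8,[3]),(8,[2]),(8,[0]),(9,[])],
  [(191,[]),(53,[]),(60,[]),(9,[4]),(9,[3]),(9,[2]),(10,[]),(8,[])],
  [(192,[]),(54,[]),(61,[]),(10,[4]),(10,[3]),(11,[]),(9,[]),(10,[0])],
  [(193,[]),(55,[]),(62,[]),(11,[4]),(12,[]),(10,[]),(11,[2]),(11,[0])]]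

def e8Trans7_1 : List (List (ℕ × List ℕ)) := [[(194,[]),(56,[]),(63,[]),(44,[]),(11,[]),(12,[3]),(12,[2]),(12,[0])],
  [(195,[]),(13,[6]),(0,[]),(45,[]),(13,[4]),(13,[3]),(13,[2]),(13,[0])],
  [(196,[]),(14,[2]),(14,[1]),(14,[3]),(14,[4]),(14,[5]),(14,[6]),(15,[])],
  [(197,[]),(15,[2]),(15,[1]),(15,[3]),(15,[4]),(15,[5]),(17,[]),(14,[])],
  [(198,[]),(16,[4]),(16,[1]),(16,[3]),(16,[2]),(16,[0]),(18,[]),(16,[6])],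
  [(199,[]),(17,[2]),(17,[1]),(17,[3]),(17,[4]),(20,[]),(15,[]),(17,[6])],
  [(200,[]),(18,[4]),(18,[1]),(18,[3]),(18,[2]),(21,[]),(16,[]),(19,[])],
  [(201,[]),(19,[4]),(19,[1]),(19,[3]),(19,[2]),(22,[]),(19,[6]),(18,[])],
  [(202,[]),(20,[2]),(20,[1]),(20,[3]),(24,[]),(17,[]),(20,[5]),(20,[6])],
  [(203,[]),(21,[4]),(21,[1]),(21,[3]),(25,[]),(18,[]),(21,[0]),(22,[])],
  [(204,[]),(22,[4]),(22,[1]),(22,[3]),(26,[]),(19,[]),(23,[]),(21,[])],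
  [(205,[]),(23,[4]),(23,[1]),(23,[3]),(27,[]),(23,[6]),(22,[]),(23,[0])]]

def e8Trans7_2 : List (List (ℕ × List ℕ)) := [[(206,[]),(24,[2]),(24,[1]),(51,[]),(20,[]),(24,[4]),(24,[5]),(24,[6])],
  [(207,[]),(25,[4]),(25,[1]),(52,[]),(21,[]),(25,[2]),(25,[0]),(26,[])],
  [(208,[]),(26,[4]),(26,[1]),(53,[]),(22,[]),(26,[2]),(27,[]),(25,[])],
  [(209,[]),(27,[4]),(27,[1]),(54,[]),(23,[]),(28,[]),(26,[]),(27,[0])],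
  [(210,[]),(28,[4]),(28,[1]),(55,[]),(28,[6]),(27,[]),(28,[2]),(28,[0])],
  [(211,[]),(29,[4]),(90,[]),(2,[]),(29,[6]),(30,[]),(29,[2]),(29,[0])],
  [(212,[]),(30,[4]),(91,[]),(3,[]),(34,[]),(29,[]),(31,[]),(30,[0])],
  [(213,[]),(31,[4]),(92,[]),(4,[]),(35,[]),(31,[2]),(30,[]),(32,[])],
  [(214,[]),(32,[4]),(93,[]),(5,[]),(36,[]),(32,[2]),(32,[0]),(31,[])],
  [(215,[]),(33,[2]),(94,[]),(6,[]),(37,[]),(33,[4]),(33,[5]),(33,[6])],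
  [(216,[]),(34,[4]),(95,[]),(34,[3]),(30,[]),(34,[6]),(35,[]),(34,[0])],
  [(217,[]),(35,[4]),(96,[]),(35,[3]),(31,[]),(38,[]),(34,[]),(36,[])]]

def e8Trans7_3 : List (List (ℕ × List ℕ)) := [[(218,[]),(36,[4]),(97,[]),(36,[3]),(32,[]),(39,[]),(36,[0]),(35,[])],
  [(219,[]),(37,[2]),(98,[]),(37,[3]),(33,[]),(40,[]),(37,[5]),(37,[6])],
  [(220,[]),(38,[4]),(99,[]),(38,[3]),(38,[2]),(35,[]),(38,[6]),(39,[])],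
  [(221,[]),(39,[4]),(100,[]),(39,[3]),(39,[2]),(36,[]),(41,[]),(38,[])],
  [(222,[]),(40,[2]),(101,[]),(40,[3]),(40,[4]),(37,[]),(42,[]),(40,[6])],
  [(223,[]),(41,[4]),(102,[]),(41,[3]),(41,[2]),(41,[0]),(39,[]),(41,[6])],
  [(224,[]),(42,[2]),(103,[]),(42,[3]),(42,[4]),(42,[5]),(40,[]),(43,[])],
  [(225,[]),(43,[2]),(104,[]),(43,[3]),(43,[4]),(43,[5]),(43,[6]),(42,[])],
  [(226,[]),(44,[6]),(195,[]),(12,[]),(44,[4]),(44,[3]),(44,[2]),(44,[0])],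
  [(227,[]),(1,[]),(45,[5]),(13,[]),(46,[]),(45,[3]),(45,[2]),(45,[0])],
  [(228,[]),(2,[]),(46,[5]),(46,[4]),(45,[]),(47,[]),(46,[2]),(46,[0])],
  [(229,[]),(3,[]),(47,[5]),(47,[4]),(47,[3]),(46,[]),(48,[]),(47,[0])]]

def e8Trans7_4 : List (List (ℕ × List ℕ)) := [[(230,[]),(4,[]),(48,[5]),(48,[4]),(48,[3]),(48,[2]),(47,[]),(49,[])],
  [(231,[]),(5,[]),(49,[5]),(49,[4]),(49,[3]),(49,[2]),(49,[0]),(48,[])],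
  [(232,[]),(6,[]),(50,[0]),(50,[2]),(50,[3]),(50,[4]),(50,[5]),(50,[6])],
  [(233,[]),(7,[]),(150,[]),(24,[]),(51,[3]),(51,[4]),(51,[5]),(51,[6])],
  [(234,[]),(8,[]),(151,[]),(25,[]),(52,[3]),(52,[2]),(52,[0]),(53,[])],
  [(235,[]),(9,[]),(152,[]),(26,[]),(53,[3]),(53,[2]),(54,[]),(52,[])],
  [(236,[]),(10,[]),(153,[]),(27,[]),(54,[3]),(55,[]),(53,[]),(54,[0])],
  [(237,[]),(11,[]),(154,[]),(28,[]),(56,[]),(54,[]),(55,[2]),(55,[0])],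
  [(238,[]),(12,[]),(155,[]),(56,[6]),(55,[]),(56,[3]),(56,[2]),(56,[0])],
  [(57,[5]),(182,[]),(57,[6]),(84,[]),(57,[1]),(57,[3]),(57,[2]),(57,[0])],
  [(58,[0]),(150,[]),(7,[]),(105,[]),(58,[3]),(58,[4]),(58,[5]),(58,[6])],
  [(59,[5]),(151,[]),(8,[]),(106,[]),(59,[3]),(59,[2]),(59,[0]),(60,[])]]

def e8Trans7_5 : List (List (ℕ × List ℕ)) := [[(60,[5]),(152,[]),(9,[]),(107,[]),(60,[3]),(60,[2]),(61,[]),(59,[])],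
  [(61,[5]),(153,[]),(10,[]),(108,[]),(61,[3]),(62,[]),(60,[]),(61,[0])],
  [(62,[5]),(154,[]),(11,[]),(109,[]),(63,[]),(61,[]),(62,[2]),(62,[0])],
  [(63,[5]),(155,[]),(12,[]),(176,[]),(62,[]),(63,[3]),(63,[2]),(63,[0])],
  [(64,[1]),(156,[]),(64,[3]),(64,[4]),(64,[5]),(64,[6]),(65,[]),(64,[0])],
  [(65,[1]),(157,[]),(65,[3]),(65,[4]),(65,[5]),(68,[]),(64,[]),(66,[])],
  [(66,[1]),(158,[]),(66,[3]),(66,[4]),(66,[5]),(69,[]),(66,[0]),(65,[])],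
  [(67,[1]),(159,[]),(67,[3]),(67,[2]),(67,[0]),(70,[]),(67,[5]),(67,[6])],
  [(68,[1]),(160,[]),(68,[3]),(68,[4]),(74,[]),(65,[]),(68,[6]),(69,[])],
  [(69,[1]),(161,[]),(69,[3]),(69,[4]),(75,[]),(66,[]),(71,[]),(68,[])],
  [(70,[1]),(162,[]),(70,[3]),(70,[2]),(76,[]),(67,[]),(72,[]),(70,[6])],
  [(71,[1]),(163,[]),(71,[3]),(71,[4]),(77,[]),(71,[0]),(69,[]),(71,[6])]]

def e8Trans7_6 : List (List (ℕ × List ℕ)) := [[(72,[1]),(164,[]),(72,[3]),(72,[2]),(78,[]),(72,[5]),(70,[]),(73,[])],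
  [(73,[1]),(165,[]),(73,[3]),(73,[2]),(79,[]),(73,[5]),(73,[6]),(72,[])],
  [(74,[1]),(166,[]),(74,[3]),(135,[]),(68,[]),(74,[5]),(74,[6]),(75,[])],
  [(75,[1]),(167,[]),(75,[3]),(136,[]),(69,[]),(75,[5]),(77,[]),(74,[])],
  [(76,[1]),(168,[]),(76,[3]),(137,[]),(70,[]),(76,[0]),(78,[]),(76,[6])],
  [(77,[1]),(169,[]),(77,[3]),(138,[]),(71,[]),(80,[]),(75,[]),(77,[6])],
  [(78,[1]),(170,[]),(78,[3]),(139,[]),(72,[]),(81,[]),(76,[]),(79,[])],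
  [(79,[1]),(171,[]),(79,[3]),(140,[]),(73,[]),(82,[]),(79,[6]),(78,[])],
  [(80,[1]),(172,[]),(80,[3]),(141,[]),(80,[0]),(77,[]),(80,[5]),(80,[6])],
  [(81,[1]),(173,[]),(81,[3]),(142,[]),(81,[5]),(78,[]),(81,[0]),(82,[])],
  [(82,[1]),(174,[]),(82,[3]),(143,[]),(82,[5]),(79,[]),(83,[]),(81,[])],
  [(83,[1]),(175,[]),(83,[3]),(144,[]),(83,[5]),(83,[6]),(82,[]),(83,[0])]]

def e8Trans7_7 : List (List (ℕ × List ℕ)) := [[(84,[5]),(176,[]),(183,[]),(57,[]),(85,[]),(84,[3]),(84,[2]),(84,[0])],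
  [(85,[5]),(177,[]),(184,[]),(85,[1]),(84,[]),(86,[]),(85,[2]),(85,[0])],
  [(86,[5]),(178,[]),(185,[]),(86,[1]),(86,[3]),(85,[]),(87,[]),(86,[0])],
  [(87,[5]),(179,[]),(186,[]),(87,[1]),(87,[3]),(87,[2]),(86,[]),(88,[])],
  [(88,[5]),(180,[]),(187,[]),(88,[1]),(88,[3]),(88,[2]),(88,[0]),(87,[])],
  [(89,[0]),(181,[]),(188,[]),(89,[1]),(89,[3]),(89,[4]),(89,[5]),(89,[6])],
  [(90,[1]),(90,[4]),(29,[]),(90,[5]),(90,[6]),(91,[]),(90,[2]),(90,[0])],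
  [(91,[1]),(91,[4]),(30,[]),(91,[5]),(95,[]),(90,[]),(92,[]),(91,[0])],
  [(92,[1]),(92,[4]),(31,[]),(92,[5]),(96,[]),(92,[2]),(91,[]),(93,[])],
  [(93,[1]),(93,[4]),(32,[]),(93,[5]),(97,[]),(93,[2]),(93,[0]),(92,[])],
  [(94,[1]),(94,[2]),(33,[]),(94,[0]),(98,[]),(94,[4]),(94,[5]),(94,[6])],
  [(95,[1]),(95,[4]),(34,[]),(156,[]),(91,[]),(95,[6]),(96,[]),(95,[0])]]

def e8Trans7_8 : List (List (ℕ × List ℕ)) := [[(96,[1]),(96,[4]),(35,[]),(157,[]),(92,[]),(99,[]),(95,[]),(97,[])],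
  [(97,[1]),(97,[4]),(36,[]),(158,[]),(93,[]),(100,[]),(97,[0]),(96,[])],
  [(98,[1]),(98,[2]),(37,[]),(159,[]),(94,[]),(101,[]),(98,[5]),(98,[6])],
  [(99,[1]),(99,[4]),(38,[]),(160,[]),(99,[2]),(96,[]),(99,[6]),(100,[])],
  [(100,[1]),(100,[4]),(39,[]),(161,[]),(100,[2]),(97,[]),(102,[]),(99,[])],
  [(101,[1]),(101,[2]),(40,[]),(162,[]),(101,[4]),(98,[]),(103,[]),(101,[6])],
  [(102,[1]),(102,[4]),(41,[]),(163,[]),(102,[2]),(102,[0]),(100,[]),(102,[6])],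
  [(103,[1]),(103,[2]),(42,[]),(164,[]),(103,[4]),(103,[5]),(101,[]),(104,[])],
  [(104,[1]),(104,[2]),(43,[]),(165,[]),(104,[4]),(104,[5]),(104,[6]),(103,[])],
  [(105,[0]),(105,[1]),(105,[2]),(58,[]),(110,[]),(105,[4]),(105,[5]),(105,[6])],
  [(106,[5]),(106,[1]),(106,[4]),(59,[]),(111,[]),(106,[2]),(106,[0]),(107,[])],
  [(107,[5]),(107,[1]),(107,[4]),(60,[]),(112,[]),(107,[2]),(108,[]),(106,[])]]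

def e8Trans7_9 : List (List (ℕ × List ℕ)) := [[(108,[5]),(108,[1]),(108,[4]),(61,[]),(113,[]),(109,[]),(107,[]),(108,[0])],
  [(109,[5]),(109,[1]),(109,[4]),(62,[]),(130,[]),(108,[]),(109,[2]),(109,[0])],
  [(110,[0]),(110,[1]),(110,[2]),(110,[3]),(105,[]),(114,[]),(110,[5]),(110,[6])],
  [(111,[5]),(111,[1]),(111,[4]),(111,[3]),(106,[]),(115,[]),(111,[0]),(112,[])],
  [(112,[5]),(112,[1]),(112,[4]),(112,[3]),(107,[]),(116,[]),(113,[]),(111,[])],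
  [(113,[5]),(113,[1]),(113,[4]),(113,[3]),(108,[]),(126,[]),(112,[]),(113,[0])],
  [(114,[0]),(114,[1]),(114,[2]),(114,[3]),(114,[4]),(110,[]),(117,[]),(114,[6])],
  [(115,[5]),(115,[1]),(115,[4]),(115,[3]),(115,[2]),(111,[]),(118,[]),(116,[])],
  [(116,[5]),(116,[1]),(116,[4]),(116,[3]),(116,[2]),(112,[]),(123,[]),(115,[])],
  [(117,[0]),(117,[1]),(117,[2]),(117,[3]),(117,[4]),(117,[5]),(114,[]),(119,[])],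
  [(118,[5]),(118,[1]),(118,[4]),(118,[3]),(118,[2]),(118,[0]),(115,[]),(121,[])],
  [(119,[0]),(119,[1]),(119,[2]),(119,[3]),(119,[4]),(119,[5]),(119,[6]),(117,[])]]

def e8Trans7_10 : List (List (ℕ × List ℕ)) := [[(120,[0]),(120,[1]),(120,[2]),(120,[3]),(120,[4]),(120,[5]),(120,[6]),(122,[])],
  [(121,[5]),(121,[1]),(121,[4]),(121,[3]),(121,[2]),(121,[0]),(124,[]),(118,[])],
  [(122,[0]),(122,[1]),(122,[2]),(122,[3]),(122,[4]),(122,[5]),(125,[]),(120,[])],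
  [(123,[5]),(123,[1]),(123,[4]),(123,[3]),(123,[2]),(127,[]),(116,[]),(124,[])],
  [(124,[5]),(124,[1]),(124,[4]),(124,[3]),(124,[2]),(128,[]),(121,[]),(123,[])],
  [(125,[0]),(125,[1]),(125,[2]),(125,[3]),(125,[4]),(129,[]),(122,[]),(125,[6])],
  [(126,[5]),(126,[1]),(126,[4]),(126,[3]),(131,[]),(113,[]),(127,[]),(126,[0])],
  [(127,[5]),(127,[1]),(127,[4]),(127,[3]),(132,[]),(123,[]),(126,[]),(128,[])],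
  [(128,[5]),(128,[1]),(128,[4]),(128,[3]),(133,[]),(124,[]),(128,[0]),(127,[])],
  [(129,[0]),(129,[1]),(129,[2]),(129,[3]),(134,[]),(125,[]),(129,[5]),(129,[6])],
  [(130,[5]),(130,[1]),(130,[4]),(177,[]),(109,[]),(131,[]),(130,[2]),(130,[0])],
  [(131,[5]),(131,[1]),(131,[4]),(178,[]),(126,[]),(130,[]),(132,[]),(131,[0])]]

def e8Trans7_11 : List (List (ℕ × List ℕ)) := [[(132,[5]),(132,[1]),(132,[4]),(179,[]),(127,[]),(132,[2]),(131,[]),(133,[])],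
  [(133,[5]),(133,[1]),(133,[4]),(180,[]),(128,[]),(133,[2]),(133,[0]),(132,[])],
  [(134,[0]),(134,[1]),(134,[2]),(181,[]),(129,[]),(134,[4]),(134,[5]),(134,[6])],
  [(135,[1]),(135,[2]),(196,[]),(74,[]),(135,[4]),(135,[5]),(135,[6]),(136,[])],
  [(136,[1]),(136,[2]),(197,[]),(75,[]),(136,[4]),(136,[5]),(138,[]),(135,[])],
  [(137,[1]),(137,[4]),(198,[]),(76,[]),(137,[2]),(137,[0]),(139,[]),(137,[6])],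
  [(138,[1]),(138,[2]),(199,[]),(77,[]),(138,[4]),(141,[]),(136,[]),(138,[6])],
  [(139,[1]),(139,[4]),(200,[]),(78,[]),(139,[2]),(142,[]),(137,[]),(140,[])],
  [(140,[1]),(140,[4]),(201,[]),(79,[]),(140,[2]),(143,[]),(140,[6]),(139,[])],
  [(141,[1]),(141,[2]),(202,[]),(80,[]),(145,[]),(138,[]),(141,[5]),(141,[6])],
  [(142,[1]),(142,[4]),(203,[]),(81,[]),(146,[]),(139,[]),(142,[0]),(143,[])],
  [(143,[1]),(143,[4]),(204,[]),(82,[]),(147,[]),(140,[]),(144,[]),(142,[])]]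

def e8Trans7_12 : List (List (ℕ × List ℕ)) := [[(144,[1]),(144,[4]),(205,[]),(83,[]),(148,[]),(144,[6]),(143,[]),(144,[0])],
  [(145,[1]),(145,[2]),(206,[]),(145,[0]),(141,[]),(145,[4]),(145,[5]),(145,[6])],
  [(146,[1]),(146,[4]),(207,[]),(146,[5]),(142,[]),(146,[2]),(146,[0]),(147,[])],
  [(147,[1]),(147,[4]),(208,[]),(147,[5]),(143,[]),(147,[2]),(148,[]),(146,[])],
  [(148,[1]),(148,[4]),(209,[]),(148,[5]),(144,[]),(149,[]),(147,[]),(148,[0])],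
  [(149,[1]),(149,[4]),(210,[]),(149,[5]),(149,[6]),(148,[]),(149,[2]),(149,[0])],
  [(150,[0]),(58,[]),(51,[]),(150,[1]),(150,[3]),(150,[4]),(150,[5]),(150,[6])],
  [(151,[5]),(59,[]),(52,[]),(151,[1]),(151,[3]),(151,[2]),(151,[0]),(152,[])],
  [(152,[5]),(60,[]),(53,[]),(152,[1]),(152,[3]),(152,[2]),(153,[]),(151,[])],
  [(153,[5]),(61,[]),(54,[]),(153,[1]),(153,[3]),(154,[]),(152,[]),(153,[0])],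
  [(154,[5]),(62,[]),(55,[]),(154,[1]),(155,[]),(153,[]),(154,[2]),(154,[0])],
  [(155,[5]),(63,[]),(56,[]),(182,[]),(154,[]),(155,[3]),(155,[2]),(155,[0])]]

def e8Trans7_13 : List (List (ℕ × List ℕ)) := [[(156,[1]),(64,[]),(156,[3]),(95,[]),(156,[5]),(156,[6]),(157,[]),(156,[0])],
  [(157,[1]),(65,[]),(157,[3]),(96,[]),(157,[5]),(160,[]),(156,[]),(158,[])],
  [(158,[1]),(66,[]),(158,[3]),(97,[]),(158,[5]),(161,[]),(158,[0]),(157,[])],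
  [(159,[1]),(67,[]),(159,[3]),(98,[]),(159,[0]),(162,[]),(159,[5]),(159,[6])],
  [(160,[1]),(68,[]),(160,[3]),(99,[]),(166,[]),(157,[]),(160,[6]),(161,[])],
  [(161,[1]),(69,[]),(161,[3]),(100,[]),(167,[]),(158,[]),(163,[]),(160,[])],
  [(162,[1]),(70,[]),(162,[3]),(101,[]),(168,[]),(159,[]),(164,[]),(162,[6])],
  [(163,[1]),(71,[]),(163,[3]),(102,[]),(169,[]),(163,[0]),(161,[]),(163,[6])],
  [(164,[1]),(72,[]),(164,[3]),(103,[]),(170,[]),(164,[5]),(162,[]),(165,[])],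
  [(165,[1]),(73,[]),(165,[3]),(104,[]),(171,[]),(165,[5]),(165,[6]),(164,[])],
  [(166,[1]),(74,[]),(166,[3]),(166,[2]),(160,[]),(166,[5]),(166,[6]),(167,[])],
  [(167,[1]),(75,[]),(167,[3]),(167,[2]),(161,[]),(167,[5]),(169,[]),(166,[])]]

def e8Trans7_14 : List (List (ℕ × List ℕ)) := [[(168,[1]),(76,[]),(168,[3]),(168,[4]),(162,[]),(168,[0]),(170,[]),(168,[6])],
  [(169,[1]),(77,[]),(169,[3]),(169,[2]),(163,[]),(172,[]),(167,[]),(169,[6])],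
  [(170,[1]),(78,[]),(170,[3]),(170,[4]),(164,[]),(173,[]),(168,[]),(171,[])],
  [(171,[1]),(79,[]),(171,[3]),(171,[4]),(165,[]),(174,[]),(171,[6]),(170,[])],
  [(172,[1]),(80,[]),(172,[3]),(172,[2]),(172,[0]),(169,[]),(172,[5]),(172,[6])],
  [(173,[1]),(81,[]),(173,[3]),(173,[4]),(173,[5]),(170,[]),(173,[0]),(174,[])],
  [(174,[1]),(82,[]),(174,[3]),(174,[4]),(174,[5]),(171,[]),(175,[]),(173,[])],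
  [(175,[1]),(83,[]),(175,[3]),(175,[4]),(175,[5]),(175,[6]),(174,[]),(175,[0])],
  [(176,[5]),(84,[]),(227,[]),(63,[]),(177,[]),(176,[3]),(176,[2]),(176,[0])],
  [(177,[5]),(85,[]),(228,[]),(130,[]),(176,[]),(178,[]),(177,[2]),(177,[0])],
  [(178,[5]),(86,[]),(229,[]),(131,[]),(178,[3]),(177,[]),(179,[]),(178,[0])],
  [(179,[5]),(87,[]),(230,[]),(132,[]),(179,[3]),(179,[2]),(178,[]),(180,[])]]

def e8Trans7_15 : List (List (ℕ × List ℕ)) := [[(180,[5]),(88,[]),(231,[]),(133,[]),(180,[3]),(180,[2]),(180,[0]),(179,[])],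
  [(181,[0]),(89,[]),(232,[]),(134,[]),(181,[3]),(181,[4]),(181,[5]),(181,[6])],
  [(182,[5]),(57,[]),(182,[6]),(155,[]),(182,[1]),(182,[3]),(182,[2]),(182,[0])],
  [(1,[]),(227,[]),(84,[]),(183,[6]),(184,[]),(183,[3]),(183,[2]),(183,[0])],
  [(2,[]),(228,[]),(85,[]),(211,[]),(183,[]),(185,[]),(184,[2]),(184,[0])],
  [(3,[]),(229,[]),(86,[]),(212,[]),(185,[3]),(184,[]),(186,[]),(185,[0])],
  [(4,[]),(230,[]),(87,[]),(213,[]),(186,[3]),(186,[2]),(185,[]),(187,[])],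
  [(5,[]),(231,[]),(88,[]),(214,[]),(187,[3]),(187,[2]),(187,[0]),(186,[])],
  [(6,[]),(232,[]),(89,[]),(215,[]),(188,[3]),(188,[4]),(188,[5]),(188,[6])],
  [(7,[]),(233,[]),(189,[0]),(189,[2]),(189,[3]),(189,[4]),(189,[5]),(189,[6])],
  [(8,[]),(234,[]),(190,[5]),(190,[4]),(190,[3]),(190,[2]),(190,[0]),(191,[])],
  [(9,[]),(235,[]),(191,[5]),(191,[4]),(191,[3]),(191,[2]),(192,[]),(190,[])]]

def e8Trans7_16 : List (List (ℕ × List ℕ)) := [[(10,[]),(236,[]),(192,[5]),(192,[4]),(192,[3]),(193,[]),(191,[]),(192,[0])],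
  [(11,[]),(237,[]),(193,[5]),(193,[4]),(194,[]),(192,[]),(193,[2]),(193,[0])],
  [(12,[]),(238,[]),(194,[5]),(226,[]),(193,[]),(194,[3]),(194,[2]),(194,[0])],
  [(13,[]),(195,[6]),(44,[]),(227,[]),(195,[4]),(195,[3]),(195,[2]),(195,[0])],
  [(14,[]),(196,[2]),(135,[]),(196,[3]),(196,[4]),(196,[5]),(196,[6]),(197,[])],
  [(15,[]),(197,[2]),(136,[]),(197,[3]),(197,[4]),(197,[5]),(199,[]),(196,[])],
  [(16,[]),(198,[4]),(137,[]),(198,[3]),(198,[2]),(198,[0]),(200,[]),(198,[6])],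
  [(17,[]),(199,[2]),(138,[]),(199,[3]),(199,[4]),(202,[]),(197,[]),(199,[6])],
  [(18,[]),(200,[4]),(139,[]),(200,[3]),(200,[2]),(203,[]),(198,[]),(201,[])],
  [(19,[]),(201,[4]),(140,[]),(201,[3]),(201,[2]),(204,[]),(201,[6]),(200,[])],
  [(20,[]),(202,[2]),(141,[]),(202,[3]),(206,[]),(199,[]),(202,[5]),(202,[6])],
  [(21,[]),(203,[4]),(142,[]),(203,[3]),(207,[]),(200,[]),(203,[0]),(204,[])]]

def e8Trans7_17 : List (List (ℕ × List ℕ)) := [[(22,[]),(204,[4]),(143,[]),(204,[3]),(208,[]),(201,[]),(205,[]),(203,[])],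
  [(23,[]),(205,[4]),(144,[]),(205,[3]),(209,[]),(205,[6]),(204,[]),(205,[0])],
  [(24,[]),(206,[2]),(145,[]),(233,[]),(202,[]),(206,[4]),(206,[5]),(206,[6])],
  [(25,[]),(207,[4]),(146,[]),(234,[]),(203,[]),(207,[2]),(207,[0]),(208,[])],
  [(26,[]),(208,[4]),(147,[]),(235,[]),(204,[]),(208,[2]),(209,[]),(207,[])],
  [(27,[]),(209,[4]),(148,[]),(236,[]),(205,[]),(210,[]),(208,[]),(209,[0])],
  [(28,[]),(210,[4]),(149,[]),(237,[]),(210,[6]),(209,[]),(210,[2]),(210,[0])],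
  [(29,[]),(211,[4]),(211,[1]),(184,[]),(211,[6]),(212,[]),(211,[2]),(211,[0])],
  [(30,[]),(212,[4]),(212,[1]),(185,[]),(216,[]),(211,[]),(213,[]),(212,[0])],
  [(31,[]),(213,[4]),(213,[1]),(186,[]),(217,[]),(213,[2]),(212,[]),(214,[])],
  [(32,[]),(214,[4]),(214,[1]),(187,[]),(218,[]),(214,[2]),(214,[0]),(213,[])],
  [(33,[]),(215,[2]),(215,[1]),(188,[]),(219,[]),(215,[4]),(215,[5]),(215,[6])]]

def e8Trans7_18 : List (List (ℕ × List ℕ)) := [[(34,[]),(216,[4]),(216,[1]),(216,[3]),(212,[]),(216,[6]),(217,[]),(216,[0])],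
  [(35,[]),(217,[4]),(217,[1]),(217,[3]),(213,[]),(220,[]),(216,[]),(218,[])],
  [(36,[]),(218,[4]),(218,[1]),(218,[3]),(214,[]),(221,[]),(218,[0]),(217,[])],
  [(37,[]),(219,[2]),(219,[1]),(219,[3]),(215,[]),(222,[]),(219,[5]),(219,[6])],
  [(38,[]),(220,[4]),(220,[1]),(220,[3]),(220,[2]),(217,[]),(220,[6]),(221,[])],
  [(39,[]),(221,[4]),(221,[1]),(221,[3]),(221,[2]),(218,[]),(223,[]),(220,[])],
  [(40,[]),(222,[2]),(222,[1]),(222,[3]),(222,[4]),(219,[]),(224,[]),(222,[6])],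
  [(41,[]),(223,[4]),(223,[1]),(223,[3]),(223,[2]),(223,[0]),(221,[]),(223,[6])],
  [(42,[]),(224,[2]),(224,[1]),(224,[3]),(224,[4]),(224,[5]),(222,[]),(225,[])],
  [(43,[]),(225,[2]),(225,[1]),(225,[3]),(225,[4]),(225,[5]),(225,[6]),(224,[])],
  [(44,[]),(226,[6]),(239,[]),(194,[]),(226,[4]),(226,[3]),(226,[2]),(226,[0])],
  [(45,[]),(183,[]),(176,[]),(195,[]),(228,[]),(227,[3]),(227,[2]),(227,[0])]]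

def e8Trans7_19 : List (List (ℕ × List ℕ)) := [[(46,[]),(184,[]),(177,[]),(228,[4]),(227,[]),(229,[]),(228,[2]),(228,[0])],
  [(47,[]),(185,[]),(178,[]),(229,[4]),(229,[3]),(228,[]),(230,[]),(229,[0])],
  [(48,[]),(186,[]),(179,[]),(230,[4]),(230,[3]),(230,[2]),(229,[]),(231,[])],
  [(49,[]),(187,[]),(180,[]),(231,[4]),(231,[3]),(231,[2]),(231,[0]),(230,[])],
  [(50,[]),(188,[]),(181,[]),(232,[2]),(232,[3]),(232,[4]),(232,[5]),(232,[6])],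
  [(51,[]),(189,[]),(233,[0]),(206,[]),(233,[3]),(233,[4]),(233,[5]),(233,[6])],
  [(52,[]),(190,[]),(234,[5]),(207,[]),(234,[3]),(234,[2]),(234,[0]),(235,[])],
  [(53,[]),(191,[]),(235,[5]),(208,[]),(235,[3]),(235,[2]),(236,[]),(234,[])],
  [(54,[]),(192,[]),(236,[5]),(209,[]),(236,[3]),(237,[]),(235,[]),(236,[0])],
  [(55,[]),(193,[]),(237,[5]),(210,[]),(238,[]),(236,[]),(237,[2]),(237,[0])],
  [(56,[]),(194,[]),(238,[5]),(238,[6]),(237,[]),(238,[3]),(238,[2]),(238,[0])],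
  [(0,[]),(239,[6]),(226,[]),(239,[5]),(239,[4]),(239,[3]),(239,[2]),(239,[0])]]

def e8Trans7 : List (List (ℕ × List ℕ)) := [e8Trans7_0, e8Trans7_1, e8Trans7_2, e8Trans7_3, e8Trans7_4, e8Trans7_5, e8Trans7_6, e8Trans7_7, e8Trans7_8, e8Trans7_9, e8Trans7_10, e8Trans7_11, e8Trans7_12, e8Trans7_13, e8Trans7_14, e8Trans7_15, e8Trans7_16, e8Trans7_17, e8Trans7_18, e8Trans7_19].flatten

def e8Keys7_0 : List ℤ := [-2361182115534915764224,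
  -1181744542220944408576,
  -1181744541123579215872,
  -1181744541122507570176,
  -1181744541122506523647,
  -1181744541122506522625,
  -1181744541122506522624,
  -1181743416322111307776,
  -1181743416322111307775,
  -1181743416322111306753,
  -1181743416322110260224,
  -1181743416321038614528]

def e8Keys7_1 : List ℤ := [-1181743415223673421824,
  -1180592745517806518272,
  -1180591620717411303423,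
  -1180591620717411302401,
  -1180591620717411302400,
  -1180591620717410255872,
  -1180591620717410255871,
  -1180591620717410254849,
  -1180591620716338610176,
  -1180591620716338610175,
  -1180591620716338609153,
  -1180591620716337562624]

def e8Keys7_2 : List ℤ := [-1180591619618973417472,
  -1180591619618973417471,
  -1180591619618973416449,
  -1180591619618972369920,
  -1180591619617900724224,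
  -1180590495917015040000,
  -1180590495915943394304,
  -1180590495915942347775,
  -1180590495915942346753,
  -1180590495915942346752,
  -1180590494818578201600,
  -1180590494818577155071]

def e8Keys7_3 : List ℤ := [-1180590494818577154049,
  -1180590494818577154048,
  -1180590494817505509375,
  -1180590494817505508353,
  -1180590494817505508352,
  -1180590494817504461824,
  -1180590494817504461823,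
  -1180590494817504460801,
  -1180589370017109245952,
  -1179438700311242342400,
  -1179438699213877149696,
  -1179438699212805504000]

def e8Keys7_4 : List ℤ := [-1179438699212804457471,
  -1179438699212804456449,
  -1179438699212804456448,
  -1179437574412409241600,
  -1179437574412409241599,
  -1179437574412409240577,
  -1179437574412408194048,
  -1179437574411336548352,
  -1179437573313971355648,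
  -2305841909702066176,
  -1154046305002061824,
  -1154046305002061823]

def e8Keys7_5 : List ℤ := [-1154046305002060801,
  -1154046305001014272,
  -1154046303929368576,
  -1154045206564175872,
  -1152921504606845952,
  -1152921504605799423,
  -1152921504605798401,
  -1152921504605798400,
  -1152921503534153727,
  -1152921503534152705,
  -1152921503534152704,
  -1152921503533106176]

def e8Keys7_6 : List ℤ := [-1152921503533106175,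
  -1152921503533105153,
  -1152920406168961023,
  -1152920406168960001,
  -1152920406168960000,
  -1152920406167913472,
  -1152920406167913471,
  -1152920406167912449,
  -1152920405096267776,
  -1152920405096267775,
  -1152920405096266753,
  -1152920405095220224]

def e8Keys7_7 : List ℤ := [-1151796703137890304,
  -1151795605772697600,
  -1151795604701051904,
  -1151795604700005375,
  -1151795604700004353,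
  -1151795604700004352,
  -1125899905794048,
  -1125898834148352,
  -1125898833101823,
  -1125898833100801,
  -1125898833100800,
  -1124801468955648]

def e8Keys7_8 : List ℤ := [-1124801467909119,
  -1124801467908097,
  -1124801467908096,
  -1124800396263423,
  -1124800396262401,
  -1124800396262400,
  -1124800395215872,
  -1124800395215871,
  -1124800395214849,
  -1098437885952,
  -1098437885951,
  -1098437884929]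

def e8Keys7_9 : List ℤ := [-1098436838400,
  -1097365192704,
  -1072693248,
  -1072693247,
  -1072692225,
  -1071645696,
  -1047552,
  -1047551,
  -1046529,
  -1023,
  -1022,
  -1]

def e8Keys7_10 : List ℤ := [1,
  1022,
  1023,
  1046529,
  1047551,
  1047552,
  1071645696,
  1072692225,
  1072693247,
  1072693248,
  1097365192704,
  1098436838400]

def e8Keys7_11 : List ℤ := [1098437884929,
  1098437885951,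
  1098437885952,
  1124800395214849,
  1124800395215871,
  1124800395215872,
  1124800396262400,
  1124800396262401,
  1124800396263423,
  1124801467908096,
  1124801467908097,
  1124801467909119]

def e8Keys7_12 : List ℤ := [1124801468955648,
  1125898833100800,
  1125898833100801,
  1125898833101823,
  1125898834148352,
  1125899905794048,
  1151795604700004352,
  1151795604700004353,
  1151795604700005375,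
  1151795604701051904,
  1151795605772697600,
  1151796703137890304]

def e8Keys7_13 : List ℤ := [1152920405095220224,
  1152920405096266753,
  1152920405096267775,
  1152920405096267776,
  1152920406167912449,
  1152920406167913471,
  1152920406167913472,
  1152920406168960000,
  1152920406168960001,
  1152920406168961023,
  1152921503533105153,
  1152921503533106175]

def e8Keys7_14 : List ℤ := [1152921503533106176,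
  1152921503534152704,
  1152921503534152705,
  1152921503534153727,
  1152921504605798400,
  1152921504605798401,
  1152921504605799423,
  1152921504606845952,
  1154045206564175872,
  1154046303929368576,
  1154046305001014272,
  1154046305002060801]

def e8Keys7_15 : List ℤ := [1154046305002061823,
  1154046305002061824,
  2305841909702066176,
  1179437573313971355648,
  1179437574411336548352,
  1179437574412408194048,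
  1179437574412409240577,
  1179437574412409241599,
  1179437574412409241600,
  1179438699212804456448,
  1179438699212804456449,
  1179438699212804457471]

def e8Keys7_16 : List ℤ := [1179438699212805504000,
  1179438699213877149696,
  1179438700311242342400,
  1180589370017109245952,
  1180590494817504460801,
  1180590494817504461823,
  1180590494817504461824,
  1180590494817505508352,
  1180590494817505508353,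
  1180590494817505509375,
  1180590494818577154048,
  1180590494818577154049]

def e8Keys7_17 : List ℤ := [1180590494818577155071,
  1180590494818578201600,
  1180590495915942346752,
  1180590495915942346753,
  1180590495915942347775,
  1180590495915943394304,
  1180590495917015040000,
  1180591619617900724224,
  1180591619618972369920,
  1180591619618973416449,
  1180591619618973417471,
  1180591619618973417472]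

def e8Keys7_18 : List ℤ := [1180591620716337562624,
  1180591620716338609153,
  1180591620716338610175,
  1180591620716338610176,
  1180591620717410254849,
  1180591620717410255871,
  1180591620717410255872,
  1180591620717411302400,
  1180591620717411302401,
  1180591620717411303423,
  1180592745517806518272,
  1181743415223673421824]

def e8Keys7_19 : List ℤ := [1181743416321038614528,
  1181743416322110260224,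
  1181743416322111306753,
  1181743416322111307775,
  1181743416322111307776,
  1181744541122506522624,
  1181744541122506522625,
  1181744541122506523647,
  1181744541122507570176,
  1181744541123579215872,
  1181744542220944408576,
  2361182115534915764224]

def e8Keys7 : List ℤ := [e8Keys7_0, e8Keys7_1, e8Keys7_2, e8Keys7_3, e8Keys7_4, e8Keys7_5, e8Keys7_6, e8Keys7_7, e8Keys7_8, e8Keys7_9, e8Keys7_10, e8Keys7_11, e8Keys7_12, e8Keys7_13, e8Keys7_14, e8Keys7_15, e8Keys7_16, e8Keys7_17, e8Keys7_18, e8Keys7_19].flatten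

theorem e8_check7 : stepCheck e8R 8 7 e8Reps7 e8Trans7 e8Keys7 = true := by decide +kernel

theorem e8_len7 : e8Reps7.length = 240 := by decide +kernel

end Cfsg.Agent.Coxeter
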