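import Cfsg.Agent.Lib.Coxeter.Compute

/-!
# Parabolic chain certificates for the Coxeter groups B₂, G₂, D₄, F₄

Tables checked by the kernel: `x_check k` and `x_len k` for x in b2, g2, d4, f4, with `xR` the
Cartan rows (generated data).
-/

set_option autoImplicit false

namespace Cfsg.Agent.Coxeter

/-- Cartan rows for b2. -/
def b2R : List (List ℤ) := [[2,-2], [-1,2]]

def b2Reps0_0 : List (List ℕ) := [[0],
  []]

def b2Reps0 : List (List ℕ) := [b2Reps0_0].flatten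

def b2Trans0_0 : List (List (ℕ × List ℕ)) := [[(1,[])],
  [(0,[])]]

def b2Trans0 : List (List (ℕ × List ℕ)) := [b2Trans0_0].flatten

def b2Keys0_0 : List ℤ := [-1022,
  1024]

def b2Keys0 : List ℤ := [b2Keys0_0].flatten

theorem b2_check0 : stepCheck b2R 2 0 b2Reps0 b2Trans0 b2Keys0 = true := by decide +kernel

theorem b2_len0 : b2Reps0.length = 2 := by decide +kernel

def b2Reps1_0 : List (List ℕ) := [[0,1],
  [1,0,1],
  [],
  [1]]

def b2Reps1 : List (List ℕ) := [b2Reps1_0].flatten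

def b2Trans1_0 : List (List (ℕ × List ℕ)) := [[(3,[]),(1,[])],
  [(1,[0]),(0,[])],
  [(2,[0]),(3,[])],
  [(0,[]),(2,[])]]

def b2Trans1 : List (List (ℕ × List ℕ)) := [b2Trans1_0].flatten

def b2Keys1_0 : List ℤ := [-1023,
  -1,
  1,
  1023]

def b2Keys1 : List ℤ := [b2Keys1_0].flatten

theorem b2_check1 : stepCheck b2R 2 1 b2Reps1 b2Trans1 b2Keys1 = true := by decide +kernel

theorem b2_len1 : b2Reps1.length = 4 := by decide +kernel

/-- Cartan rows for g2. -/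
def g2R : List (List ℤ) := [[2,-3], [-1,2]]

def g2Reps0_0 : List (List ℕ) := [[0],
  []]

def g2Reps0 : List (List ℕ) := [g2Reps0_0].flatten

def g2Trans0_0 : List (List (ℕ × List ℕ)) := [[(1,[])],
  [(0,[])]]

def g2Trans0 : List (List (ℕ × List ℕ)) := [g2Trans0_0].flatten

def g2Keys0_0 : List ℤ := [-1021,
  1024]

def g2Keys0 : List ℤ := [g2Keys0_0].flatten

theorem g2_check0 : stepCheck g2R 2 0 g2Reps0 g2Trans0 g2Keys0 = true := by decide +kernel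

theorem g2_len0 : g2Reps0.length = 2 := by decide +kernel

def g2Reps1_0 : List (List ℕ) := [[0,1,0,1],
  [0,1],
  [1,0,1,0,1],
  [],
  [1,0,1],
  [1]]

def g2Reps1 : List (List ℕ) := [g2Reps1_0].flatten

def g2Trans1_0 : List (List (ℕ × List ℕ)) := [[(4,[]),(2,[])],
  [(5,[]),(4,[])],
  [(2,[0]),(0,[])],
  [(3,[0]),(5,[])],
  [(0,[]),(1,[])],
  [(1,[]),(3,[])]]

def g2Trans1 : List (List (ℕ × List ℕ)) := [g2Trans1_0].flatten

def g2Keys1_0 : List ℤ := [-1023,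
  -1022,
  -1,
  1,
  1022,
  1023]

def g2Keys1 : List ℤ := [g2Keys1_0].flatten

theorem g2_check1 : stepCheck g2R 2 1 g2Reps1 g2Trans1 g2Keys1 = true := by decide +kernel

theorem g2_len1 : g2Reps1.length = 6 := by decide +kernel

/-- Cartan rows for d4. -/
def d4R : List (List ℤ) := [[2,-1,0,0], [-1,2,-1,-1], [0,-1,2,0], [0,-1,0,2]]

def d4Reps0_0 : List (List ℕ) := [[0],
  []]

def d4Reps0 : List (List ℕ) := [d4Reps0_0].flatten

def d4Trans0_0 : List (List (ℕ × List ℕ)) := [[(1,[])],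
  [(0,[])]]

def d4Trans0 : List (List (ℕ × List ℕ)) := [d4Trans0_0].flatten

def d4Keys0_0 : List ℤ := [-1072693248,
  1073741824]

def d4Keys0 : List ℤ := [d4Keys0_0].flatten

theorem d4_check0 : stepCheck d4R 4 0 d4Reps0 d4Trans0 d4Keys0 = true := by decide +kernel

theorem d4_len0 : d4Reps0.length = 2 := by decide +kernel

def d4Reps1_0 : List (List ℕ) := [[0,1],
  [],
  [1]]

def d4Reps1 : List (List ℕ) := [d4Reps1_0].flatten

def d4Trans1_0 : List (List (ℕ × List ℕ)) := [[(2,[]),(0,[0])],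
  [(1,[0]),(2,[])],
  [(0,[]),(1,[])]]

def d4Trans1 : List (List (ℕ × List ℕ)) := [d4Trans1_0].flatten

def d4Keys1_0 : List ℤ := [-1073740799,
  1048576,
  1072694273]

def d4Keys1 : List ℤ := [d4Keys1_0].flatten

theorem d4_check1 : stepCheck d4R 4 1 d4Reps1 d4Trans1 d4Keys1 = true := by decide +kernel

theorem d4_len1 : d4Reps1.length = 3 := by decide +kernel

def d4Reps2_0 : List (List ℕ) := [[0,1,2],
  [],
  [2],
  [1,2]]

def d4Reps2 : List (List ℕ) := [d4Reps2_0].flatten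

def d4Trans2_0 : List (List (ℕ × List ℕ)) := [[(3,[]),(0,[0]),(0,[1])],
  [(1,[0]),(1,[1]),(2,[])],
  [(2,[0]),(3,[]),(1,[])],
  [(0,[]),(2,[]),(3,[1])]]

def d4Trans2 : List (List (ℕ × List ℕ)) := [d4Trans2_0].flatten

def d4Keys2_0 : List ℤ := [-1073741823,
  1024,
  1047552,
  1072693249]

def d4Keys2 : List ℤ := [d4Keys2_0].flatten

theorem d4_check2 : stepCheck d4R 4 2 d4Reps2 d4Trans2 d4Keys2 = true := by decide +kernel

theorem d4_len2 : d4Reps2.length = 4 := by decide +kernel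

def d4Reps3_0 : List (List ℕ) := [[0,1,3],
  [2,0,1,3],
  [1,2,0,1,3],
  [3,1,2,0,1,3],
  [],
  [3],
  [1,3],
  [2,1,3]]

def d4Reps3 : List (List ℕ) := [d4Reps3_0].flatten

def d4Trans3_0 : List (List (ℕ × List ℕ)) := [[(6,[]),(0,[0]),(1,[]),(0,[1])],
  [(7,[]),(2,[]),(0,[]),(1,[1])],
  [(2,[2]),(1,[]),(2,[0]),(3,[])],
  [(3,[2]),(3,[1]),(3,[0]),(2,[])],
  [(4,[0]),(4,[1]),(4,[2]),(5,[])],
  [(5,[0]),(6,[]),(5,[2]),(4,[])],
  [(0,[]),(5,[]),(7,[]),(6,[1])],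
  [(1,[]),(7,[2]),(6,[]),(7,[1])]]

def d4Trans3 : List (List (ℕ × List ℕ)) := [d4Trans3_0].flatten

def d4Keys3_0 : List ℤ := [-1073740800,
  -1072694272,
  -1048575,
  -1,
  1,
  1048575,
  1072694272,
  1073740800]

def d4Keys3 : List ℤ := [d4Keys3_0].flatten

theorem d4_check3 : stepCheck d4R 4 3 d4Reps3 d4Trans3 d4Keys3 = true := by decide +kernel

theorem d4_len3 : d4Reps3.length = 8 := by decide +kernel

/-- Cartan rows for f4. -/
def f4R : List (List ℤ) := [[2,-1,0,0], [-1,2,-2,0], [0,-1,2,-1], [0,0,-1,2]]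

def f4Reps0_0 : List (List ℕ) := [[0],
  []]

def f4Reps0 : List (List ℕ) := [f4Reps0_0].flatten

def f4Trans0_0 : List (List (ℕ × List ℕ)) := [[(1,[])],
  [(0,[])]]

def f4Trans0 : List (List (ℕ × List ℕ)) := [f4Trans0_0].flatten

def f4Keys0_0 : List ℤ := [-1072693248,
  1073741824]

def f4Keys0 : List ℤ := [f4Keys0_0].flatten

theorem f4_check0 : stepCheck f4R 4 0 f4Reps0 f4Trans0 f4Keys0 = true := by decide +kernel

theorem f4_len0 : f4Reps0.length = 2 := by decide +kernel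

def f4Reps1_0 : List (List ℕ) := [[0,1],
  [],
  [1]]

def f4Reps1 : List (List ℕ) := [f4Reps1_0].flatten

def f4Trans1_0 : List (List (ℕ × List ℕ)) := [[(2,[]),(0,[0])],
  [(1,[0]),(2,[])],
  [(0,[]),(1,[])]]

def f4Trans1 : List (List (ℕ × List ℕ)) := [f4Trans1_0].flatten

def f4Keys1_0 : List ℤ := [-1073739776,
  1048576,
  1072695296]

def f4Keys1 : List ℤ := [f4Keys1_0].flatten

theorem f4_check1 : stepCheck f4R 4 1 f4Reps1 f4Trans1 f4Keys1 = true := by decide +kernel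

theorem f4_len1 : f4Reps1.length = 3 := by decide +kernel

def f4Reps2_0 : List (List ℕ) := [[0,1,2],
  [2,0,1,2],
  [1,2,0,1,2],
  [2,1,2,0,1,2],
  [],
  [2],
  [1,2],
  [2,1,2]]

def f4Reps2 : List (List ℕ) := [f4Reps2_0].flatten

def f4Trans2_0 : List (List (ℕ × List ℕ)) := [[(6,[]),(0,[0]),(1,[])],
  [(7,[]),(2,[]),(0,[])],
  [(2,[1]),(1,[]),(3,[])],
  [(3,[1]),(3,[0]),(2,[])],
  [(4,[0]),(4,[1]),(5,[])],
  [(5,[0]),(6,[]),(4,[])],
  [(0,[]),(5,[]),(7,[])],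
  [(1,[]),(7,[1]),(6,[])]]

def f4Trans2 : List (List (ℕ × List ℕ)) := [f4Trans2_0].flatten

def f4Keys2_0 : List ℤ := [-1073740799,
  -1072694270,
  -1047550,
  -1021,
  1024,
  1047553,
  1072694273,
  1073740802]

def f4Keys2 : List ℤ := [f4Keys2_0].flatten

theorem f4_check2 : stepCheck f4R 4 2 f4Reps2 f4Trans2 f4Keys2 = true := by decide +kernel

theorem f4_len2 : f4Reps2.length = 8 := by decide +kernel

def f4Reps3_0 : List (List ℕ) := [[0,1,2,3,1,2,0,1,2,3],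
  [0,1,2,3,2,1,2,0,1,2,3],
  [0,1,2,3],
  [2,0,1,2,3,2,1,2,0,1,2,3],
  [2,0,1,2,3],
  [3,2,0,1,2,3],
  [1,2,0,1,2,3,2,1,2,0,1,2,3],
  [1,2,0,1,2,3],
  [3,1,2,0,1,2,3],
  [2,1,2,0,1,2,3,2,1,2,0,1,2,3],
  [2,1,2,0,1,2,3],
  [3,2,1,2,0,1,2,3,2,1,2,0,1,2,3]]

def f4Reps3_1 : List (List ℕ) := [[],
  [3,2,1,2,0,1,2,3],
  [3],
  [2,3,1,2,0,1,2,3],
  [2,3,2,1,2,0,1,2,3],
  [2,3],
  [1,2,3,1,2,0,1,2,3],
  [1,2,3,2,1,2,0,1,2,3],
  [1,2,3],
  [2,1,2,3,2,1,2,0,1,2,3],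
  [2,1,2,3],
  [3,2,1,2,3]]

def f4Reps3 : List (List ℕ) := [f4Reps3_0, f4Reps3_1].flatten

def f4Trans3_0 : List (List (ℕ × List ℕ)) := [[(18,[]),(0,[1]),(0,[2]),(1,[])],
  [(19,[]),(1,[1]),(3,[]),(0,[])],
  [(20,[]),(2,[0]),(4,[]),(2,[2])],
  [(21,[]),(6,[]),(1,[]),(3,[2])],
  [(22,[]),(7,[]),(2,[]),(5,[])],
  [(23,[]),(8,[]),(5,[2]),(4,[])],
  [(6,[0]),(3,[]),(9,[]),(6,[2])],
  [(7,[1]),(4,[]),(10,[]),(8,[])],
  [(8,[1]),(5,[]),(15,[]),(7,[])],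
  [(9,[0]),(9,[1]),(6,[]),(11,[])],
  [(10,[1]),(10,[0]),(7,[]),(13,[])],
  [(11,[0]),(11,[1]),(11,[2]),(9,[])]]

def f4Trans3_1 : List (List (ℕ × List ℕ)) := [[(12,[0]),(12,[1]),(12,[2]),(14,[])],
  [(13,[1]),(13,[0]),(16,[]),(10,[])],
  [(14,[0]),(14,[1]),(17,[]),(12,[])],
  [(15,[1]),(18,[]),(8,[]),(16,[])],
  [(16,[1]),(19,[]),(13,[]),(15,[])],
  [(17,[0]),(20,[]),(14,[]),(17,[2])],
  [(0,[]),(15,[]),(18,[2]),(19,[])],
  [(1,[]),(16,[]),(21,[]),(18,[])],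
  [(2,[]),(17,[]),(22,[]),(20,[2])],
  [(3,[]),(21,[0]),(19,[]),(21,[2])],
  [(4,[]),(22,[1]),(20,[]),(23,[])],
  [(5,[]),(23,[1]),(23,[2]),(22,[])]]

def f4Trans3 : List (List (ℕ × List ℕ)) := [f4Trans3_0, f4Trans3_1].flatten

def f4Keys3_0 : List ℤ := [-1073741823,
  -1073740801,
  -1073740800,
  -1072694272,
  -1072694271,
  -1072693249,
  -1047552,
  -1047551,
  -1046529,
  -1023,
  -1022,
  -1]

def f4Keys3_1 : List ℤ := [1,
  1022,
  1023,
  1046529,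
  1047551,
  1047552,
  1072693249,
  1072694271,
  1072694272,
  1073740800,
  1073740801,
  1073741823]

def f4Keys3 : List ℤ := [f4Keys3_0, f4Keys3_1].flatten

theorem f4_check3 : stepCheck f4R 4 3 f4Reps3 f4Trans3 f4Keys3 = true := by decide +kernel

theorem f4_len3 : f4Reps3.length = 24 := by decide +kernel

end Cfsg.Agent.Coxeter
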