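import Cfsg.Agent.Lib.Coxeter.Poincare
import Cfsg.Agent.Lib.Coxeter.CertSmall
import Cfsg.Agent.Lib.Coxeter.CertE6
import Cfsg.Agent.Lib.Coxeter.CertE7
import Cfsg.Agent.Lib.Coxeter.CertE8

/-!
# The length polynomials of B₂, G₂, D₄, F₄, E₆, E₇, E₈

`poincare_x : (q - 1) ^ l * ∑_w q ^ ℓ(w) = ∏ (q ^ d - 1)` over the degrees `d`.
-/

set_option autoImplicit false

namespace Cfsg.Agent.Coxeter

theorem b2_depth0 : depthCheck b2Reps0 b2Trans0 = true := by decide +kernel

theorem b2_depth1 : depthCheck b2Reps1 b2Trans1 = true := by decide +kernel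

theorem b2_poly : prodP ([repsP b2Reps0, repsP b2Reps1] ++ List.replicate 2 (binP 1)) =
    prodP ([2, 4].map binP) := by decide +kernel

/-- The length polynomial of `CoxeterMatrix.B 2`. -/
theorem poincare_b2 [Fintype (CoxeterMatrix.B 2).Group]
    (hex : Cfsg.Agent.BN.HasExchange (CoxeterMatrix.B 2).toCoxeterSystem.simple) (q : ℕ) (hq : 1 ≤ q) :
    (q - 1) ^ 2 * ∑ w : (CoxeterMatrix.B 2).Group, q ^ Cfsg.Agent.BN.wlen (CoxeterMatrix.B 2).toCoxeterSystem.simple w =
      (q ^ 2 - 1) * (q ^ 4 - 1) := by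
  have hA := isCartan_cartanOf_all (M := CoxeterMatrix.B 2) (by decide +kernel)
  have hR : List.ofFn (fun i => List.ofFn (cartanOf (CoxeterMatrix.B 2) i)) = b2R := by decide +kernel
  rw [← psum_top, psum_succ hA hR hex b2_check1 b2_depth1, psum_succ hA hR hex b2_check0 b2_depth0, psum_zero, mul_one]
  zify [hq, Nat.one_le_pow' , Nat.one_le_pow _ _ hq]
  have h := congrArg (fun p => evalP p (q : ℤ)) b2_poly
  simp only [evalP_prodP, List.map_cons, List.map_nil, List.cons_append, List.nil_append,
    List.replicate_succ, List.replicate_zero, List.prod_cons, List.prod_nil,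
    evalP_binP _ (show 1 ≤ 1 by norm_num)] at h
  simp (disch := norm_num) only [evalP_binP] at h
  simp only [← cast_sum_eq_evalP] at h
  push_cast at h
  linear_combination h

theorem g2_depth0 : depthCheck g2Reps0 g2Trans0 = true := by decide +kernel

theorem g2_depth1 : depthCheck g2Reps1 g2Trans1 = true := by decide +kernel

theorem g2_poly : prodP ([repsP g2Reps0, repsP g2Reps1] ++ List.replicate 2 (binP 1)) =
    prodP ([2, 6].map binP) := by decide +kernel

/-- The length polynomial of `CoxeterMatrix.G₂`. -/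
theorem poincare_g2 [Fintype (CoxeterMatrix.G₂).Group]
    (hex : Cfsg.Agent.BN.HasExchange (CoxeterMatrix.G₂).toCoxeterSystem.simple) (q : ℕ) (hq : 1 ≤ q) :
    (q - 1) ^ 2 * ∑ w : (CoxeterMatrix.G₂).Group, q ^ Cfsg.Agent.BN.wlen (CoxeterMatrix.G₂).toCoxeterSystem.simple w =
      (q ^ 2 - 1) * (q ^ 6 - 1) := by
  have hA := isCartan_cartanOf_all (M := CoxeterMatrix.G₂) (by decide +kernel)
  have hR : List.ofFn (fun i => List.ofFn (cartanOf (CoxeterMatrix.G₂) i)) = g2R := by decide +kernel
  rw [← psum_top, psum_succ hA hR hex g2_check1 g2_depth1, psum_succ hA hR hex g2_check0 g2_depth0, psum_zero, mul_one]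
  zify [hq, Nat.one_le_pow' , Nat.one_le_pow _ _ hq]
  have h := congrArg (fun p => evalP p (q : ℤ)) g2_poly
  simp only [evalP_prodP, List.map_cons, List.map_nil, List.cons_append, List.nil_append,
    List.replicate_succ, List.replicate_zero, List.prod_cons, List.prod_nil,
    evalP_binP _ (show 1 ≤ 1 by norm_num)] at h
  simp (disch := norm_num) only [evalP_binP] at h
  simp only [← cast_sum_eq_evalP] at h
  push_cast at h
  linear_combination h

theorem d4_depth0 : depthCheck d4Reps0 d4Trans0 = true := by decide +kernel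

theorem d4_depth1 : depthCheck d4Reps1 d4Trans1 = true := by decide +kernel

theorem d4_depth2 : depthCheck d4Reps2 d4Trans2 = true := by decide +kernel

theorem d4_depth3 : depthCheck d4Reps3 d4Trans3 = true := by decide +kernel

theorem d4_poly : prodP ([repsP d4Reps0, repsP d4Reps1, repsP d4Reps2, repsP d4Reps3] ++ List.replicate 4 (binP 1)) =
    prodP ([2, 4, 4, 6].map binP) := by decide +kernel

/-- The length polynomial of `Cfsg.Lie.coxeterD4`. -/
theorem poincare_d4 [Fintype (Cfsg.Lie.coxeterD4).Group]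
    (hex : Cfsg.Agent.BN.HasExchange (Cfsg.Lie.coxeterD4).toCoxeterSystem.simple) (q : ℕ) (hq : 1 ≤ q) :
    (q - 1) ^ 4 * ∑ w : (Cfsg.Lie.coxeterD4).Group, q ^ Cfsg.Agent.BN.wlen (Cfsg.Lie.coxeterD4).toCoxeterSystem.simple w =
      (q ^ 2 - 1) * (q ^ 4 - 1) * (q ^ 4 - 1) * (q ^ 6 - 1) := by
  have hA := isCartan_cartanOf_all (M := Cfsg.Lie.coxeterD4) (by decide +kernel)
  have hR : List.ofFn (fun i => List.ofFn (cartanOf (Cfsg.Lie.coxeterD4) i)) = d4R := by decide +kernel
  rw [← psum_top, psum_succ hA hR hex d4_check3 d4_depth3, psum_succ hA hR hex d4_check2 d4_depth2, psum_succ hA hR hex d4_check1 d4_depth1, psum_succ hA hR hex d4_check0 d4_depth0, psum_zero, mul_one]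
  zify [hq, Nat.one_le_pow' , Nat.one_le_pow _ _ hq]
  have h := congrArg (fun p => evalP p (q : ℤ)) d4_poly
  simp only [evalP_prodP, List.map_cons, List.map_nil, List.cons_append, List.nil_append,
    List.replicate_succ, List.replicate_zero, List.prod_cons, List.prod_nil,
    evalP_binP _ (show 1 ≤ 1 by norm_num)] at h
  simp (disch := norm_num) only [evalP_binP] at h
  simp only [← cast_sum_eq_evalP] at h
  push_cast at h
  linear_combination h

theorem f4_depth0 : depthCheck f4Reps0 f4Trans0 = true := by decide +kernel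

theorem f4_depth1 : depthCheck f4Reps1 f4Trans1 = true := by decide +kernel

theorem f4_depth2 : depthCheck f4Reps2 f4Trans2 = true := by decide +kernel

theorem f4_depth3 : depthCheck f4Reps3 f4Trans3 = true := by decide +kernel

theorem f4_poly : prodP ([repsP f4Reps0, repsP f4Reps1, repsP f4Reps2, repsP f4Reps3] ++ List.replicate 4 (binP 1)) =
    prodP ([2, 6, 8, 12].map binP) := by decide +kernel

/-- The length polynomial of `CoxeterMatrix.F₄`. -/
theorem poincare_f4 [Fintype (CoxeterMatrix.F₄).Group]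
    (hex : Cfsg.Agent.BN.HasExchange (CoxeterMatrix.F₄).toCoxeterSystem.simple) (q : ℕ) (hq : 1 ≤ q) :
    (q - 1) ^ 4 * ∑ w : (CoxeterMatrix.F₄).Group, q ^ Cfsg.Agent.BN.wlen (CoxeterMatrix.F₄).toCoxeterSystem.simple w =
      (q ^ 2 - 1) * (q ^ 6 - 1) * (q ^ 8 - 1) * (q ^ 12 - 1) := by
  have hA := isCartan_cartanOf_all (M := CoxeterMatrix.F₄) (by decide +kernel)
  have hR : List.ofFn (fun i => List.ofFn (cartanOf (CoxeterMatrix.F₄) i)) = f4R := by decide +kernel
  rw [← psum_top, psum_succ hA hR hex f4_check3 f4_depth3, psum_succ hA hR hex f4_check2 f4_depth2, psum_succ hA hR hex f4_check1 f4_depth1, psum_succ hA hR hex f4_check0 f4_depth0, psum_zero, mul_one]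
  zify [hq, Nat.one_le_pow' , Nat.one_le_pow _ _ hq]
  have h := congrArg (fun p => evalP p (q : ℤ)) f4_poly
  simp only [evalP_prodP, List.map_cons, List.map_nil, List.cons_append, List.nil_append,
    List.replicate_succ, List.replicate_zero, List.prod_cons, List.prod_nil,
    evalP_binP _ (show 1 ≤ 1 by norm_num)] at h
  simp (disch := norm_num) only [evalP_binP] at h
  simp only [← cast_sum_eq_evalP] at h
  push_cast at h
  linear_combination h

theorem e6_depth0 : depthCheck e6Reps0 e6Trans0 = true := by decide +kernel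

theorem e6_depth1 : depthCheck e6Reps1 e6Trans1 = true := by decide +kernel

theorem e6_depth2 : depthCheck e6Reps2 e6Trans2 = true := by decide +kernel

theorem e6_depth3 : depthCheck e6Reps3 e6Trans3 = true := by decide +kernel

theorem e6_depth4 : depthCheck e6Reps4 e6Trans4 = true := by decide +kernel

theorem e6_depth5 : depthCheck e6Reps5 e6Trans5 = true := by decide +kernel

theorem e6_poly : prodP ([repsP e6Reps0, repsP e6Reps1, repsP e6Reps2, repsP e6Reps3, repsP e6Reps4, repsP e6Reps5] ++ List.replicate 6 (binP 1)) =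
    prodP ([2, 5, 6, 8, 9, 12].map binP) := by decide +kernel

/-- The length polynomial of `CoxeterMatrix.E₆`. -/
theorem poincare_e6 [Fintype (CoxeterMatrix.E₆).Group]
    (hex : Cfsg.Agent.BN.HasExchange (CoxeterMatrix.E₆).toCoxeterSystem.simple) (q : ℕ) (hq : 1 ≤ q) :
    (q - 1) ^ 6 * ∑ w : (CoxeterMatrix.E₆).Group, q ^ Cfsg.Agent.BN.wlen (CoxeterMatrix.E₆).toCoxeterSystem.simple w =
      (q ^ 2 - 1) * (q ^ 5 - 1) * (q ^ 6 - 1) * (q ^ 8 - 1) * (q ^ 9 - 1) * (q ^ 12 - 1) := by
  have hA := isCartan_cartanOf_all (M := CoxeterMatrix.E₆) (by decide +kernel)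
  have hR : List.ofFn (fun i => List.ofFn (cartanOf (CoxeterMatrix.E₆) i)) = e6R := by decide +kernel
  rw [← psum_top, psum_succ hA hR hex e6_check5 e6_depth5, psum_succ hA hR hex e6_check4 e6_depth4, psum_succ hA hR hex e6_check3 e6_depth3, psum_succ hA hR hex e6_check2 e6_depth2, psum_succ hA hR hex e6_check1 e6_depth1, psum_succ hA hR hex e6_check0 e6_depth0, psum_zero, mul_one]
  zify [hq, Nat.one_le_pow' , Nat.one_le_pow _ _ hq]
  have h := congrArg (fun p => evalP p (q : ℤ)) e6_poly
  simp only [evalP_prodP, List.map_cons, List.map_nil, List.cons_append, List.nil_append,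
    List.replicate_succ, List.replicate_zero, List.prod_cons, List.prod_nil,
    evalP_binP _ (show 1 ≤ 1 by norm_num)] at h
  simp (disch := norm_num) only [evalP_binP] at h
  simp only [← cast_sum_eq_evalP] at h
  push_cast at h
  linear_combination h

theorem e7_depth0 : depthCheck e7Reps0 e7Trans0 = true := by decide +kernel

theorem e7_depth1 : depthCheck e7Reps1 e7Trans1 = true := by decide +kernel

theorem e7_depth2 : depthCheck e7Reps2 e7Trans2 = true := by decide +kernel

theorem e7_depth3 : depthCheck e7Reps3 e7Trans3 = true := by decide +kernel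

theorem e7_depth4 : depthCheck e7Reps4 e7Trans4 = true := by decide +kernel

theorem e7_depth5 : depthCheck e7Reps5 e7Trans5 = true := by decide +kernel

theorem e7_depth6 : depthCheck e7Reps6 e7Trans6 = true := by decide +kernel

theorem e7_poly : prodP ([repsP e7Reps0, repsP e7Reps1, repsP e7Reps2, repsP e7Reps3, repsP e7Reps4, repsP e7Reps5, repsP e7Reps6] ++ List.replicate 7 (binP 1)) =
    prodP ([2, 6, 8, 10, 12, 14, 18].map binP) := by decide +kernel

/-- The length polynomial of `CoxeterMatrix.E₇`. -/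
theorem poincare_e7 [Fintype (CoxeterMatrix.E₇).Group]
    (hex : Cfsg.Agent.BN.HasExchange (CoxeterMatrix.E₇).toCoxeterSystem.simple) (q : ℕ) (hq : 1 ≤ q) :
    (q - 1) ^ 7 * ∑ w : (CoxeterMatrix.E₇).Group, q ^ Cfsg.Agent.BN.wlen (CoxeterMatrix.E₇).toCoxeterSystem.simple w =
      (q ^ 2 - 1) * (q ^ 6 - 1) * (q ^ 8 - 1) * (q ^ 10 - 1) * (q ^ 12 - 1) * (q ^ 14 - 1) * (q ^ 18 - 1) := by
  have hA := isCartan_cartanOf_all (M := CoxeterMatrix.E₇) (by decide +kernel)
  have hR : List.ofFn (fun i => List.ofFn (cartanOf (CoxeterMatrix.E₇) i)) = e7R := by decide +kernel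
  rw [← psum_top, psum_succ hA hR hex e7_check6 e7_depth6, psum_succ hA hR hex e7_check5 e7_depth5, psum_succ hA hR hex e7_check4 e7_depth4, psum_succ hA hR hex e7_check3 e7_depth3, psum_succ hA hR hex e7_check2 e7_depth2, psum_succ hA hR hex e7_check1 e7_depth1, psum_succ hA hR hex e7_check0 e7_depth0, psum_zero, mul_one]
  zify [hq, Nat.one_le_pow' , Nat.one_le_pow _ _ hq]
  have h := congrArg (fun p => evalP p (q : ℤ)) e7_poly
  simp only [evalP_prodP, List.map_cons, List.map_nil, List.cons_append, List.nil_append,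
    List.replicate_succ, List.replicate_zero, List.prod_cons, List.prod_nil,
    evalP_binP _ (show 1 ≤ 1 by norm_num)] at h
  simp (disch := norm_num) only [evalP_binP] at h
  simp only [← cast_sum_eq_evalP] at h
  push_cast at h
  linear_combination h

theorem e8_depth0 : depthCheck e8Reps0 e8Trans0 = true := by decide +kernel

theorem e8_depth1 : depthCheck e8Reps1 e8Trans1 = true := by decide +kernel

theorem e8_depth2 : depthCheck e8Reps2 e8Trans2 = true := by decide +kernel

theorem e8_depth3 : depthCheck e8Reps3 e8Trans3 = true := by decide +kernel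

theorem e8_depth4 : depthCheck e8Reps4 e8Trans4 = true := by decide +kernel

theorem e8_depth5 : depthCheck e8Reps5 e8Trans5 = true := by decide +kernel

theorem e8_depth6 : depthCheck e8Reps6 e8Trans6 = true := by decide +kernel

theorem e8_depth7 : depthCheck e8Reps7 e8Trans7 = true := by decide +kernel

theorem e8_poly : prodP ([repsP e8Reps0, repsP e8Reps1, repsP e8Reps2, repsP e8Reps3, repsP e8Reps4, repsP e8Reps5, repsP e8Reps6, repsP e8Reps7] ++ List.replicate 8 (binP 1)) =
    prodP ([2, 8, 12, 14, 18, 20, 24, 30].map binP) := by decide +kernel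

/-- The length polynomial of `CoxeterMatrix.E₈`. -/
theorem poincare_e8 [Fintype (CoxeterMatrix.E₈).Group]
    (hex : Cfsg.Agent.BN.HasExchange (CoxeterMatrix.E₈).toCoxeterSystem.simple) (q : ℕ) (hq : 1 ≤ q) :
    (q - 1) ^ 8 * ∑ w : (CoxeterMatrix.E₈).Group, q ^ Cfsg.Agent.BN.wlen (CoxeterMatrix.E₈).toCoxeterSystem.simple w =
      (q ^ 2 - 1) * (q ^ 8 - 1) * (q ^ 12 - 1) * (q ^ 14 - 1) * (q ^ 18 - 1) * (q ^ 20 - 1) * (q ^ 24 - 1) * (q ^ 30 - 1) := by
  have hA := isCartan_cartanOf_all (M := CoxeterMatrix.E₈) (by decide +kernel)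
  have hR : List.ofFn (fun i => List.ofFn (cartanOf (CoxeterMatrix.E₈) i)) = e8R := by decide +kernel
  rw [← psum_top, psum_succ hA hR hex e8_check7 e8_depth7, psum_succ hA hR hex e8_check6 e8_depth6, psum_succ hA hR hex e8_check5 e8_depth5, psum_succ hA hR hex e8_check4 e8_depth4, psum_succ hA hR hex e8_check3 e8_depth3, psum_succ hA hR hex e8_check2 e8_depth2, psum_succ hA hR hex e8_check1 e8_depth1, psum_succ hA hR hex e8_check0 e8_depth0, psum_zero, mul_one]
  zify [hq, Nat.one_le_pow' , Nat.one_le_pow _ _ hq]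
  have h := congrArg (fun p => evalP p (q : ℤ)) e8_poly
  simp only [evalP_prodP, List.map_cons, List.map_nil, List.cons_append, List.nil_append,
    List.replicate_succ, List.replicate_zero, List.prod_cons, List.prod_nil,
    evalP_binP _ (show 1 ≤ 1 by norm_num)] at h
  simp (disch := norm_num) only [evalP_binP] at h
  simp only [← cast_sum_eq_evalP] at h
  push_cast at h
  linear_combination h

end Cfsg.Agent.Coxeter
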