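import Cfsg.Agent.EqLemmas

/-!
# The geometric action of a crystallographic Coxeter group on weights

For a Coxeter matrix `M` and an integral Cartan matrix `A` for it (`IsCartan M A`: rank two
entries of type A₁×A₁, A₂, B₂, G₂) the group acts on weights `B → ℤ` by
`(s_i λ) j = λ j - A i j * λ i` (`act`).

Main results: `pos_of_length_lt` (if `ℓ w < ℓ (s_i w)` and `λ` is strictly dominant then
`0 < (w λ) i`), `act_eq_self_iff` and `act_inj` (strictly dominant weights have trivial
stabiliser).
-/

set_option autoImplicit false

namespace Cfsg.Agent.Coxeter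

open CoxeterSystem

variable {B : Type*}

/-- `A` is an integral Cartan matrix for the Coxeter matrix `M`. -/
structure IsCartan (M : CoxeterMatrix B) (A : B → B → ℤ) : Prop where
  diag : ∀ i, A i i = 2
  off : ∀ i j, i ≠ j → (M i j, A i j, A j i) ∈
    ([(2, 0, 0), (3, -1, -1), (4, -1, -2), (4, -2, -1), (6, -1, -3), (6, -3, -1)] : List (ℕ × ℤ × ℤ))

/-- The simple reflection on weights. -/
def refl (A : B → B → ℤ) (i : B) : Function.End (B → ℤ) := fun l j => l j - A i j * l i

theorem refl_apply (A : B → B → ℤ) (i : B) (l : B → ℤ) (j : B) :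
    refl A i l j = l j - A i j * l i := rfl

theorem end_mul_apply {α : Type*} (f g : Function.End α) (x : α) : (f * g) x = f (g x) := rfl

variable {M : CoxeterMatrix B} {A : B → B → ℤ}

theorem isLiftable_refl (hA : IsCartan M A) : CoxeterMatrix.IsLiftable M (refl A) := by
  intro i j
  funext l
  change ((refl A i * refl A j) ^ M i j) l = l
  by_cases hij : i = j
  · subst hij
    rw [M.diagonal, pow_one]
    funext k
    change (refl A i (refl A i l)) k = l k
    simp only [refl_apply, hA.diag]
    ring
  · have h := hA.off i j hij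
    simp only [List.mem_cons, List.not_mem_nil, or_false, Prod.mk.injEq] at h
    funext k
    rcases h with ⟨hm, h1, h2⟩ | ⟨hm, h1, h2⟩ | ⟨hm, h1, h2⟩ | ⟨hm, h1, h2⟩ | ⟨hm, h1, h2⟩ |
      ⟨hm, h1, h2⟩ <;> rw [hm] <;>
      simp only [pow_succ, pow_zero, one_mul, end_mul_apply, refl_apply, hA.diag, h1, h2] <;> ring

variable {W : Type*} [Group W] (cs : CoxeterSystem M W)

/-- The action of `W` on weights. -/
def act (hA : IsCartan M A) : W →* Function.End (B → ℤ) :=
  cs.lift ⟨refl A, isLiftable_refl hA⟩

variable (hA : IsCartan M A)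

@[simp] theorem act_simple (i : B) : act cs hA (cs.simple i) = refl A i :=
  cs.lift_apply_simple (isLiftable_refl hA) i

theorem act_mul (w w' : W) (l : B → ℤ) : act cs hA (w * w') l = act cs hA w (act cs hA w' l) := by
  rw [map_mul]; rfl

theorem act_one (l : B → ℤ) : act cs hA 1 l = l := by rw [map_one]; rfl

theorem act_inv_act (w : W) (l : B → ℤ) : act cs hA w⁻¹ (act cs hA w l) = l := by
  rw [← act_mul, inv_mul_cancel, act_one]

theorem act_simple_mul_apply (i : B) (w : W) (l : B → ℤ) (j : B) :
    act cs hA (cs.simple i * w) l j = act cs hA w l j - A i j * act cs hA w l i := by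
  rw [act_mul, act_simple]; rfl

/-- The alternating word of length `k` starting with `a`. -/
def altL (a b : B) : ℕ → List B
  | 0 => []
  | k + 1 => a :: altL b a k

theorem altL_zero (a b : B) : altL a b 0 = [] := rfl
theorem altL_succ (a b : B) (k : ℕ) : altL a b (k + 1) = a :: altL b a k := rfl

theorem reverse_altL (a b : B) (k : ℕ) : (altL a b k).reverse = alternatingWord b a k := by
  induction k generalizing a b with
  | zero => rfl
  | succ k ih =>
    rw [altL_succ, List.reverse_cons, ih, alternatingWord_succ, List.concat_eq_append]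

theorem not_isReduced_altL (a b : B) {k : ℕ} (hM : M a b ≠ 0) (hk : M a b < k) :
    ¬ cs.IsReduced (altL a b k) := by
  rw [← cs.isReduced_reverse_iff, reverse_altL]
  exact cs.not_isReduced_alternatingWord b a (by rwa [M.symmetric]) (by rwa [M.symmetric])

/-- A reduced word in two letters is alternating. -/
theorem eq_altL_of_isReduced {a b : B} (hab : a ≠ b) : ∀ ω : List B,
    (∀ x ∈ ω, x = a ∨ x = b) → cs.IsReduced (a :: ω) → ω = altL b a ω.length := by
  intro ω
  induction ω generalizing a b with
  | nil => intros; rfl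
  | cons x ω ih =>
    intro hmem hred
    have hx : x = b := by
      rcases hmem x (List.mem_cons_self ..) with h | h
      · exfalso
        subst h
        have hlt : cs.length (cs.wordProd (x :: x :: ω)) ≤ ω.length := by
          rw [cs.wordProd_cons, cs.wordProd_cons, cs.simple_mul_simple_cancel_left]
          exact cs.length_wordProd_le ω
        rw [hred.eq] at hlt
        simp at hlt
      · exact h
    subst hx
    rw [List.length_cons, altL_succ, ← ih hab.symm
      (fun y hy => (hmem y (List.mem_cons_of_mem _ hy)).symm) (by simpa using hred.drop 1)]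

theorem altL_apply_pos (hA : IsCartan M A) {s t : B} (hst : s ≠ t) {k : ℕ} (hk : k < M s t)
    (l : B → ℤ) (hs : 0 < l s) (ht : 0 < l t) :
    0 < act cs hA (cs.wordProd (altL t s k)) l s := by
  have h := hA.off s t hst
  simp only [List.mem_cons, List.not_mem_nil, or_false, Prod.mk.injEq] at h
  rcases h with ⟨hm, h1, h2⟩ | ⟨hm, h1, h2⟩ | ⟨hm, h1, h2⟩ | ⟨hm, h1, h2⟩ | ⟨hm, h1, h2⟩ |
      ⟨hm, h1, h2⟩ <;> rw [hm] at hk <;> interval_cases k <;>
    simp only [altL, cs.wordProd_cons, cs.wordProd_nil, act_simple_mul_apply, act_one, hA.diag,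
      h1, h2] <;> omega

theorem pos_of_length_lt {l : B → ℤ} (hl : ∀ i, 0 < l i) (w : W) (s : B)
    (hws : cs.length w < cs.length (cs.simple s * w)) : 0 < act cs hA w l s := by
  classical
  suffices H : ∀ n : ℕ, ∀ w : W, cs.length w = n → ∀ s : B,
      cs.length w < cs.length (cs.simple s * w) → 0 < act cs hA w l s from H _ w rfl s hws
  intro n
  induction n using Nat.strong_induction_on with
  | _ n IH =>
  intro w hwn s hws
  by_cases hw1 : w = 1
  · rw [hw1, act_one]; exact hl s
  obtain ⟨t, ht⟩ := cs.exists_leftDescent_of_ne_one hw1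
  have hst : s ≠ t := by
    rintro rfl
    exact lt_asymm hws ht
  let P : ℕ → Prop := fun m => ∃ (ω : List B) (v : W), (∀ x ∈ ω, x = s ∨ x = t) ∧
    cs.wordProd ω * v = w ∧ cs.length v + ω.length = cs.length w ∧ cs.length v = m
  have hP0 : P (cs.length (cs.simple t * w)) := by
    refine ⟨[t], cs.simple t * w, by simp, by simp, ?_, rfl⟩
    rcases cs.length_simple_mul w t with h | h <;> have h' := ht <;>
      simp only [CoxeterSystem.IsLeftDescent] at h' <;> simp <;> omega
  have hex : ∃ m, P m := ⟨_, hP0⟩
  obtain ⟨ω, v, hmem, hprod, hlen, hv⟩ := Nat.find_spec hex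
  have hmin : ∀ x, (x = s ∨ x = t) → cs.length v < cs.length (cs.simple x * v) := by
    intro x hx
    rcases cs.length_simple_mul v x with h | h
    · omega
    · exfalso
      refine Nat.find_min hex (m := cs.length (cs.simple x * v)) (by omega)
        ⟨ω ++ [x], cs.simple x * v, ?_, ?_, ?_, rfl⟩
      · intro y hy
        rcases List.mem_append.1 hy with hy | hy
        · exact hmem y hy
        · simp only [List.mem_singleton] at hy; subst hy; exact hx
      · rw [cs.wordProd_append, cs.wordProd_singleton, mul_assoc,
          cs.simple_mul_simple_cancel_left, hprod]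
      · simp; omega
  have hvlt : cs.length v < n := by
    have := Nat.find_min' hex hP0
    have h' : cs.length (cs.simple t * w) < cs.length w := ht
    omega
  have hvs := IH _ hvlt v rfl s (hmin s (Or.inl rfl))
  have hvt := IH _ hvlt v rfl t (hmin t (Or.inr rfl))
  have hred : cs.IsReduced (s :: ω) := by
    unfold CoxeterSystem.IsReduced
    refine le_antisymm (cs.length_wordProd_le _) ?_
    have h1 := cs.length_mul_le (cs.wordProd (s :: ω)) v
    rw [cs.wordProd_cons, mul_assoc, hprod] at h1
    have h2 := cs.length_simple_mul w s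
    simp only [List.length_cons, cs.wordProd_cons]
    omega
  have hω := eq_altL_of_isReduced cs hst ω hmem hred
  rw [← hprod, act_mul, hω]
  refine altL_apply_pos cs hA hst ?_ _ hvs hvt
  by_contra hk
  have hM : M s t ≠ 0 := by
    have h := hA.off s t hst
    simp only [List.mem_cons, List.not_mem_nil, or_false, Prod.mk.injEq] at h
    omega
  refine not_isReduced_altL cs s t hM (k := ω.length + 1) (by omega) ?_
  rw [altL_succ, ← hω]
  exact hred

/-- A strictly dominant weight has trivial stabiliser. -/
theorem act_eq_self_iff {l : B → ℤ} (hl : ∀ i, 0 < l i) (w : W) :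
    act cs hA w l = l ↔ w = 1 := by
  refine ⟨fun h => ?_, fun h => by rw [h, act_one]⟩
  by_contra hw
  obtain ⟨s, hs⟩ := cs.exists_leftDescent_of_ne_one hw
  have hs' : cs.length (cs.simple s * w) < cs.length (cs.simple s * (cs.simple s * w)) := by
    rw [cs.simple_mul_simple_cancel_left]; exact hs
  have hpos := pos_of_length_lt cs hA hl _ s hs'
  rw [act_simple_mul_apply, h, hA.diag] at hpos
  have := hl s
  omega

theorem act_inj {l : B → ℤ} (hl : ∀ i, 0 < l i) {w w' : W}
    (h : act cs hA w l = act cs hA w' l) : w = w' := by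
  rw [← inv_mul_eq_one, ← act_eq_self_iff cs hA hl, act_mul, ← h, act_inv_act]

end Cfsg.Agent.Coxeter
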