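import Cfsg.Agent.Lib.Coxeter.Compute
import Cfsg.Agent.Lib.BN.Exchange

/-!
# Length polynomials of finite crystallographic Coxeter groups from chain certificates

`psum M q k = ∑_{w ∈ W_k} q ^ ℓ(w)`; for an exchange system a checked step gives
`psum_succ : psum M q (k+1) = (∑_{r ∈ reps} q ^ |r|) * psum M q k` (`depthCheck` makes the
representatives provably minimal). `evalP`/`mulP` let the kernel verify the product formula
(`cast_sum_eq_evalP`, `evalP_prodP`).
-/

set_option autoImplicit false

namespace Cfsg.Agent.Coxeter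

open Cfsg.Agent.BN CoxeterSystem

/-- Neighbouring representatives have depths at most one apart. -/
def depthCheck (reps : List (List ℕ)) (trans : List (List (ℕ × List ℕ))) : Bool :=
  (reps.zip trans).all fun rt => rt.2.all fun p =>
    decide ((reps.getD p.1 []).length ≤ rt.1.length + 1)

variable {n : ℕ} [NeZero n] {M : CoxeterMatrix (Fin n)} (hA : IsCartan M (cartanOf M))
  {R : List (List ℤ)} (hR : List.ofFn (fun i => List.ofFn (cartanOf M i)) = R)
  (hex : HasExchange M.toCoxeterSystem.simple)
  {k : ℕ} {reps : List (List ℕ)} {trans : List (List (ℕ × List ℕ))} {keys : List ℤ}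

theorem elemOf_eq_wprod (w : List ℕ) :
    elemOf M w = wprod M.toCoxeterSystem.simple (w.map (Fin.ofNat n)) := rfl

theorem mem_par_of_letters {l : List (Fin n)} (hl : ∀ i ∈ l, i.val < k) :
    wprod M.toCoxeterSystem.simple l ∈ par M k := by
  induction l with
  | nil => exact one_mem _
  | cons a l ih =>
    exact mul_mem (Subgroup.subset_closure ⟨a, hl a (List.mem_cons_self ..), rfl⟩)
      (ih fun i hi => hl i (List.mem_cons_of_mem _ hi))

include hA hR

theorem exists_index_le_length (hc : stepCheck R n k reps trans keys = true)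
    (hd : depthCheck reps trans = true) : ∀ l : List (Fin n), (∀ i ∈ l, i.val < k + 1) →
      ∃ a, ∃ ha : a < reps.length, reps[a].length ≤ l.length ∧
        ∃ h ∈ par M k, wprod M.toCoxeterSystem.simple l = elemOf M reps[a] * h := by
  obtain ⟨-, -, hnil, -, -, hstep⟩ := par_succ_spec hA hR hc
  intro l
  induction l with
  | nil =>
    intro _
    obtain ⟨a, ha, hae⟩ := List.getElem_of_mem hnil
    exact ⟨a, ha, by simp [hae], 1, one_mem _, by rw [hae, elemOf_nil, mul_one, wprod_nil]⟩
  | cons s l ih =>
    intro hl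
    obtain ⟨a, ha, hlen, h, hh, he⟩ := ih fun i hi => hl i (List.mem_cons_of_mem _ hi)
    obtain ⟨hb, h', hh', e⟩ := hstep s a ha (hl s (List.mem_cons_self ..)) h hh
    refine ⟨_, hb, ?_, h', hh', by rw [wprod_cons, he, e]⟩
    have hsl : s.val < k + 1 := hl s (List.mem_cons_self ..)
    have hd' := hd
    simp only [depthCheck, List.all_eq_true, decide_eq_true_eq] at hd'
    have htr : trans.length = reps.length ∧ ∀ (x : List ℕ × List (ℕ × List ℕ)),
        x ∈ reps.zip trans → x.2.length = k + 1 := by
      simp only [stepCheck, Bool.and_eq_true, decide_eq_true_eq, List.all_eq_true] at hc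
      exact ⟨hc.1.2, fun x hx => (hc.2 x hx).1⟩
    have ha' : a < trans.length := by omega
    have hz : (reps[a], trans[a]) ∈ reps.zip trans := by
      rw [List.mem_iff_getElem]
      exact ⟨a, by simp; omega, by simp⟩
    have hs' : s.val < trans[a].length := by
      have h1 := htr.2 _ hz
      simp only at h1
      omega
    have h2 : (reps.getD ((trans[a])[s.val]).1 []).length ≤ reps[a].length + 1 :=
      hd' _ hz _ (List.getElem_mem hs')
    simp only [List.getD_eq_getElem _ _ ha', List.getD_eq_getElem _ _ hs', List.length_cons]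
    have h3 := hb
    simp only [List.getD_eq_getElem _ _ ha', List.getD_eq_getElem _ _ hs'] at h3
    rw [List.getD_eq_getElem _ _ h3] at h2
    omega

include hex

theorem length_le_wlen_rep_mul (hc : stepCheck R n k reps trans keys = true)
    (hd : depthCheck reps trans = true) {a : ℕ} (ha : a < reps.length) {h : M.Group}
    (hh : h ∈ par M k) :
    reps[a].length ≤ wlen M.toCoxeterSystem.simple (elemOf M reps[a] * h) := by
  obtain ⟨l, hl, hle⟩ := exists_isReduced hex.sq hex.gen (elemOf M reps[a] * h)
  have hmem : wprod M.toCoxeterSystem.simple l ∈ par M (k + 1) := by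
    rw [hle]; exact mul_mem (elemOf_rep_mem hA hR hc (List.getElem_mem ha)) (par_mono k hh)
  have hlet : ∀ i ∈ l, i.val < k + 1 :=
    hex.reduced_letters_mem {i : Fin n | i.val < k + 1} hl hmem
  obtain ⟨b, hb, hbl, h', hh', he⟩ := exists_index_le_length hA hR hc hd l hlet
  obtain ⟨-, -, -, hinj, -⟩ := par_succ_spec hA hR hc
  obtain ⟨rfl, -⟩ := hinj a b ha hb h h' hh hh' (by rw [← hle, he])
  rw [← hle, hl]
  exact hbl

theorem wlen_rep_mul (hc : stepCheck R n k reps trans keys = true)
    (hd : depthCheck reps trans = true) {a : ℕ} (ha : a < reps.length) {h : M.Group}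
    (hh : h ∈ par M k) :
    wlen M.toCoxeterSystem.simple (elemOf M reps[a] * h) =
      reps[a].length + wlen M.toCoxeterSystem.simple h := by
  obtain ⟨-, hrk, -⟩ := par_succ_spec hA hR hc
  set lr := reps[a].map (Fin.ofNat n) with hlr
  obtain ⟨lh, hlh, hlhe⟩ := exists_isReduced hex.sq hex.gen h
  have hlet : ∀ i ∈ lh, i.val < k :=
    hex.reduced_letters_mem {i : Fin n | i.val < k} hlh (by rw [hlhe]; exact hh)
  obtain ⟨w, hsub, hw, hwe⟩ := hex.exists_reduced_sublist (lr ++ lh)
  obtain ⟨w1, w2, rfl, hs1, hs2⟩ := List.sublist_append_iff.1 hsub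
  have hw2 : wprod M.toCoxeterSystem.simple w2 ∈ par M k := mem_par_of_letters fun i hi => hlet i (hs2.subset hi)
  have hprod : wprod M.toCoxeterSystem.simple w1 * wprod M.toCoxeterSystem.simple w2 = elemOf M reps[a] * h := by
    rw [← wprod_append, hwe, wprod_append, hlhe, elemOf_eq_wprod]
  have hw1 : wprod M.toCoxeterSystem.simple w1 = elemOf M reps[a] * (h * (wprod M.toCoxeterSystem.simple w2)⁻¹) := by
    rw [← mul_assoc, ← hprod, mul_inv_cancel_right]
  have h1 := length_le_wlen_rep_mul hA hR hex hc hd ha (mul_mem hh (inv_mem hw2))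
  rw [← hw1] at h1
  have hlen : lr.length = reps[a].length := by rw [hlr, List.length_map]
  have h2 := wlen_le (σ := M.toCoxeterSystem.simple) w1
  obtain rfl : w1 = lr := hs1.eq_of_length_le (by omega)
  have hw2e : wprod M.toCoxeterSystem.simple w2 = h := by
    rw [elemOf_eq_wprod] at hprod
    exact mul_left_cancel hprod
  obtain rfl : w2 = lh := hs2.eq_of_length_le (by
    have h3 := wlen_le (σ := M.toCoxeterSystem.simple) w2
    unfold BN.IsReduced at hlh
    rw [hw2e] at h3; rw [hlhe] at hlh
    omega)
  unfold BN.IsReduced at hw hlh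
  rw [hwe, wprod_append, hlhe, ← elemOf_eq_wprod, List.length_append, hlen] at hw
  rw [hlhe] at hlh
  rw [hw, hlh]

omit hA hR hex

/-- `∑_{w ∈ W_k} q ^ ℓ(w)`. -/
noncomputable def psum (M : CoxeterMatrix (Fin n)) (q k : ℕ) : ℕ :=
  ∑ᶠ w : par M k, q ^ wlen M.toCoxeterSystem.simple (w : M.Group)

theorem psum_zero (q : ℕ) : psum M q 0 = 1 := by
  haveI : Subsingleton (par M 0) := by rw [par_zero]; infer_instance
  rw [psum, finsum_eq_single _ (1 : par M 0) fun x hx => absurd (Subsingleton.elim x 1) hx]
  simp

theorem psum_top (q : ℕ) [Fintype M.Group] :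
    psum M q n = ∑ w : M.Group, q ^ wlen M.toCoxeterSystem.simple w := by
  classical
  have htop : par M n = ⊤ := by
    rw [eq_top_iff, ← M.toCoxeterSystem.subgroup_closure_range_simple]
    exact Subgroup.closure_mono fun _ ⟨i, hi⟩ => ⟨i, i.isLt, hi⟩
  rw [psum, finsum_eq_sum_of_fintype]
  exact Fintype.sum_bijective (fun w : par M n => (w : M.Group))
    ⟨Subtype.val_injective, fun x => ⟨⟨x, by rw [htop]; trivial⟩, rfl⟩⟩ _ _ fun _ => rfl

include hA hR hex in
theorem psum_succ [Finite M.Group] (hc : stepCheck R n k reps trans keys = true)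
    (hd : depthCheck reps trans = true) (q : ℕ) :
    psum M q (k + 1) = (reps.map fun r => q ^ r.length).sum * psum M q k := by
  classical
  haveI := Fintype.ofFinite M.Group
  obtain ⟨-, -, -, hinj, hcover, -⟩ := par_succ_spec hA hR hc
  let f : Fin reps.length × par M k → par M (k + 1) := fun p =>
    ⟨elemOf M reps[p.1.val] * p.2.1,
      mul_mem (elemOf_rep_mem hA hR hc (List.getElem_mem p.1.isLt)) (par_mono k p.2.2)⟩
  have hf : Function.Bijective f := by
    constructor
    · rintro ⟨⟨a, ha⟩, h, hh⟩ ⟨⟨b, hb⟩, h', hh'⟩ heq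
      obtain ⟨rfl, rfl⟩ := hinj a b ha hb h h' hh hh' (congrArg Subtype.val heq)
      rfl
    · rintro ⟨x, hx⟩
      obtain ⟨a, ha, h, hh, rfl⟩ := hcover x hx
      exact ⟨⟨⟨a, ha⟩, h, hh⟩, rfl⟩
  rw [psum, psum, finsum_eq_sum_of_fintype, finsum_eq_sum_of_fintype,
    ← Fintype.sum_bijective f hf (fun p => q ^ reps[p.1.val].length *
      q ^ wlen M.toCoxeterSystem.simple (p.2 : M.Group)) _ fun p => by
        rw [← pow_add, ← wlen_rep_mul hA hR hex hc hd p.1.isLt p.2.2],
    Fintype.sum_prod_type]
  change ∑ x : Fin reps.length, ∑ y : par M k,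
    q ^ reps[x.val].length * q ^ wlen M.toCoxeterSystem.simple (y : M.Group) = _
  rw [← Finset.sum_mul_sum]
  congr 1
  rw [← List.sum_ofFn]
  congr 1
  apply List.ext_getElem <;> simp

/-! ### Integer polynomials as coefficient lists -/

/-- Evaluation of a coefficient list. -/
def evalP (p : List ℤ) (q : ℤ) : ℤ := p.foldr (fun c acc => c + q * acc) 0

/-- Sum of coefficient lists. -/
def addP : List ℤ → List ℤ → List ℤ
  | [], b => b
  | a, [] => a
  | x :: a, y :: b => (x + y) :: addP a b

/-- Product of coefficient lists. -/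
def mulP (a b : List ℤ) : List ℤ :=
  a.foldr (fun x acc => addP (b.map (x * ·)) (0 :: acc)) []

/-- Product of a list of polynomials. -/
def prodP (l : List (List ℤ)) : List ℤ := l.foldr mulP [1]

/-- `X ^ d`. -/
def monoP (d : ℕ) : List ℤ := List.replicate d 0 ++ [1]

/-- `X ^ d - 1` for `1 ≤ d`. -/
def binP (d : ℕ) : List ℤ := -1 :: (List.replicate (d - 1) 0 ++ [1])

/-- `∑ X ^ |r|`. -/
def repsP (reps : List (List ℕ)) : List ℤ :=
  reps.foldr (fun r acc => addP (monoP r.length) acc) []

@[simp] theorem evalP_nil (q : ℤ) : evalP [] q = 0 := rfl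
@[simp] theorem evalP_cons (c : ℤ) (p : List ℤ) (q : ℤ) :
    evalP (c :: p) q = c + q * evalP p q := rfl

theorem evalP_addP (q : ℤ) : ∀ a b : List ℤ, evalP (addP a b) q = evalP a q + evalP b q := by
  intro a
  induction a with
  | nil => intro b; simp [addP]
  | cons x a ih =>
    intro b
    cases b with
    | nil => simp [addP]
    | cons y b => simp only [addP, evalP_cons, ih]; ring

theorem evalP_map_mul (q x : ℤ) (b : List ℤ) : evalP (b.map (x * ·)) q = x * evalP b q := by
  induction b with
  | nil => simp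
  | cons y b ih => simp only [List.map_cons, evalP_cons, ih]; ring

theorem evalP_mulP (q : ℤ) (a b : List ℤ) : evalP (mulP a b) q = evalP a q * evalP b q := by
  induction a with
  | nil => simp [mulP]
  | cons x a ih =>
    simp only [mulP, List.foldr_cons] at ih ⊢
    rw [evalP_addP, evalP_map_mul, evalP_cons, ih, evalP_cons]
    ring

theorem evalP_prodP (q : ℤ) (l : List (List ℤ)) :
    evalP (prodP l) q = (l.map fun p => evalP p q).prod := by
  induction l with
  | nil => simp [prodP]
  | cons p l ih =>
    simp only [prodP, List.foldr_cons] at ih ⊢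
    rw [evalP_mulP, ih, List.map_cons, List.prod_cons]

theorem evalP_monoP (q : ℤ) (d : ℕ) : evalP (monoP d) q = q ^ d := by
  induction d with
  | zero => simp [monoP]
  | succ d ih =>
    simp only [monoP, List.replicate_succ, List.cons_append, evalP_cons] at ih ⊢
    rw [ih, pow_succ']
    ring

theorem evalP_binP (q : ℤ) {d : ℕ} (hd : 1 ≤ d) : evalP (binP d) q = q ^ d - 1 := by
  obtain ⟨e, rfl⟩ := Nat.exists_eq_add_of_le hd
  have h := evalP_monoP q e
  simp only [monoP] at h
  rw [binP, evalP_cons, Nat.add_sub_cancel_left, h, pow_add, pow_one]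
  ring

theorem cast_sum_eq_evalP (q : ℕ) (reps : List (List ℕ)) :
    (((reps.map fun r => q ^ r.length).sum : ℕ) : ℤ) = evalP (repsP reps) (q : ℤ) := by
  induction reps with
  | nil => simp [repsP]
  | cons r l ih =>
    simp only [repsP, List.foldr_cons, List.map_cons, List.sum_cons] at ih ⊢
    rw [evalP_addP, evalP_monoP, ← ih]
    push_cast
    rfl

end Cfsg.Agent.Coxeter
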